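import Mathlib
import Cfsg.Agent.Lib.Hall.Basic
import Cfsg.Agent.Lib.Perm.Normal
import Cfsg.Agent.Lib.Perm.SolvablePrimeDegree
import Cfsg.Agent.Lib.SmallGroups.PrimeSylow

/-!
Subgroups containing the alternating group, stabilizers of sets and partitions, groups of prime degree.
-/

set_option autoImplicit false

namespace Cfsg.Agent.Lib.SymHall

open Equiv Subgroup MulAction
open scoped Pointwise

variable {α : Type*} [Fintype α] [DecidableEq α]

theorem index_dvd_two {G : Subgroup (Perm α)} (hG : alternatingGroup α ≤ G) : G.index ∣ 2 := by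
  have h := Subgroup.index_dvd_of_le hG
  rcases subsingleton_or_nontrivial α with hs | hn
  · rw [show G = ⊤ from eq_top_iff.2 fun x _ => by rw [Subsingleton.elim x 1]; exact one_mem G, index_top]
    exact one_dvd 2
  · rwa [alternatingGroup.index_eq_two] at h

theorem eq_alt_or_top {G : Subgroup (Perm α)} (hG : alternatingGroup α ≤ G) :
    G = alternatingGroup α ∨ G = ⊤ := by
  rcases (Nat.dvd_prime Nat.prime_two).1 (index_dvd_two hG) with h | h
  · exact Or.inr (Subgroup.index_eq_one.1 h)
  · exact Or.inl (Perm.eq_alternatingGroup_of_index_eq_two h)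

/-- The index in `G` of the intersection with a subgroup containing an odd permutation. -/
theorem relIndex_inf_eq {G W : Subgroup (Perm α)} (hG : alternatingGroup α ≤ G)
    (hW : ∃ σ ∈ W, Perm.sign σ = -1) : (W ⊓ G).relIndex G = W.index := by
  obtain ⟨σ, hσW, hσ⟩ := hW
  rcases eq_alt_or_top hG with rfl | rfl
  · haveI : Nontrivial α := by
      refine not_subsingleton_iff_nontrivial.1 fun hs => ?_
      rw [Subsingleton.elim σ 1, map_one] at hσ
      exact absurd hσ (by decide)
    have hne : (alternatingGroup α).relIndex W ≠ 1 := fun h => by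
      have := Subgroup.relIndex_eq_one.1 h hσW
      rw [Perm.mem_alternatingGroup, hσ] at this
      exact absurd this (by decide)
    have h2 : (alternatingGroup α).relIndex W = 2 := by
      have hd : (alternatingGroup α).relIndex W ∣ 2 :=
        alternatingGroup.index_eq_two (α := α) ▸ Subgroup.relIndex_dvd_index_of_normal _ _
      exact ((Nat.dvd_prime Nat.prime_two).1 hd).resolve_left hne
    have e1 : Nat.card (W ⊓ alternatingGroup α : Subgroup (Perm α)) * 2 = Nat.card W := by
      rw [← h2, ← inf_relIndex_left W, Subgroup.relIndex,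
        ← Nat.card_congr (subgroupOfEquivOfLe (inf_le_left : W ⊓ alternatingGroup α ≤ W)).toEquiv, card_mul_index]
    have e2 : Nat.card (W ⊓ alternatingGroup α : Subgroup (Perm α)) * (W ⊓ alternatingGroup α).relIndex (alternatingGroup α) =
        Nat.card (alternatingGroup α) := by
      rw [Subgroup.relIndex, ← Nat.card_congr (subgroupOfEquivOfLe
        (inf_le_right : W ⊓ alternatingGroup α ≤ alternatingGroup α)).toEquiv, card_mul_index]
    have e3 := W.card_mul_index
    rw [← two_mul_nat_card_alternatingGroup, ← e2, ← e1] at e3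
    have hpos : 0 < Nat.card (W ⊓ alternatingGroup α : Subgroup (Perm α)) := Nat.card_pos
    exact (Nat.eq_of_mul_eq_mul_left (Nat.mul_pos hpos two_pos) (e3.trans (by ring))).symm
  · rw [inf_top_eq, relIndex_top_right]

theorem card_mul_relIndex {H G : Subgroup (Perm α)} (h : H ≤ G) :
    Nat.card H * H.relIndex G * G.index = (Fintype.card α).factorial := by
  rw [mul_assoc, Subgroup.relIndex_mul_index h, card_mul_index, Nat.card_perm, Nat.card_eq_fintype_card]

/-- A Hall subgroup is every π-subgroup containing it. -/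
theorem hall_eq {π : Set ℕ} {G H K : Subgroup (Perm α)} (hH : Cfsg.IsPiHallOf π H G) (hHK : H ≤ K)
    (hKG : K ≤ G) (hK : Hall.IsPiNumber π (Nat.card K)) : H = K := by
  refine le_antisymm hHK (Subgroup.relIndex_eq_one.1 ?_)
  refine Hall.IsPiNumber.eq_one (π := π) ?_ ?_
  · exact hK.of_dvd (Subgroup.relIndex_dvd_card H K)
  · exact ((Hall.isPiHallOf_iff H G).1 hH).2.2.of_dvd
      (Subgroup.relIndex_mul_relIndex H K G hHK hKG ▸ dvd_mul_right _ _)

/-- The index of the stabilizer of a set. -/
theorem index_stabilizer_finset (t : Finset α) :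
    (stabilizer (Perm α) t).index = (Fintype.card α).choose t.card := by
  rw [index_stabilizer, ← Finset.card_univ, ← Finset.card_powersetCard, ← Set.ncard_coe_finset]
  congr 1
  ext s
  rw [Finset.mem_coe, Finset.mem_powersetCard_univ]
  constructor
  · rintro ⟨g, rfl⟩
    exact Finset.card_smul_finset g t
  · intro hs
    let e : {x // x ∈ t} ≃ {x // x ∈ s} := Finset.equivOfCardEq hs.symm
    refine ⟨e.extendSubtype, Finset.eq_of_subset_of_card_le ?_ ?_⟩
    · intro y hy
      obtain ⟨x, hx, rfl⟩ := Finset.mem_smul_finset.1 hy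
      exact e.extendSubtype_mem x hx
    · rw [Finset.card_smul_finset, hs]

theorem card_stabilizer_finset (t : Finset α) :
    Nat.card (stabilizer (Perm α) t) = t.card.factorial * (Fintype.card α - t.card).factorial := by
  have h := (stabilizer (Perm α) t).card_mul_index
  rw [index_stabilizer_finset, Nat.card_perm, Nat.card_eq_fintype_card (α := α),
    ← Nat.choose_mul_factorial_mul_factorial (Finset.card_le_univ t)] at h
  exact Nat.eq_of_mul_eq_mul_left (Nat.choose_pos (Finset.card_le_univ t)) (by linarith [h])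

theorem swap_mem_stabilizer (t : Finset α) {x y : α} (h : (x ∈ t ∧ y ∈ t) ∨ (x ∉ t ∧ y ∉ t)) :
    Equiv.swap x y ∈ stabilizer (Perm α) t := by
  rw [mem_stabilizer_iff]
  ext z
  rw [← Finset.inv_smul_mem_iff]
  have hs : ((Equiv.swap x y)⁻¹ : Perm α) • z = Equiv.swap x y z := by
    rw [Equiv.swap_inv]; rfl
  rw [hs]
  by_cases h1 : z = x
  · rw [h1, Equiv.swap_apply_left]; tauto
  by_cases h2 : z = y
  · rw [h2, Equiv.swap_apply_right]; tauto
  · rw [Equiv.swap_apply_of_ne_of_ne h1 h2]

/-- Divisibility for a group preserving a partition. -/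
theorem card_dvd_wreath (L : Subgroup (Perm α)) (P : Finset (Finset α)) (t0 : Finset α)
    (hinv : ∀ l ∈ L, ∀ t ∈ P, l • t ∈ P) (hmove : ∀ t ∈ P, ∃ l ∈ L, l • t0 = t)
    (hcover : ∀ x, ∃ t ∈ P, x ∈ t) {k : ℕ}
    (hk : ∀ (M : Subgroup (Perm {x // x ∈ t0})),
      (∀ σ ∈ M, ∃ l ∈ L, ∀ x, (σ x).1 = l x.1) → Nat.card M ∣ k) :
    Nat.card L ∣ P.card.factorial * k ^ P.card := by
  classical
  have hiff : ∀ l ∈ L, ∀ t, (toPermHom (Perm α) (Finset α) l) t ∈ P ↔ t ∈ P := fun l hl t => by
    refine ⟨fun h => ?_, hinv l hl t⟩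
    have := hinv l⁻¹ (inv_mem hl) _ h
    rwa [toPermHom_apply, MulAction.toPerm_apply, inv_smul_smul] at this
  let ψ : L →* Perm {t // t ∈ P} :=
    { toFun := fun l => (toPermHom (Perm α) (Finset α) l.1).subtypePerm (hiff l.1 l.2)
      map_one' := Perm.ext fun t => Subtype.ext (one_smul (Perm α) t.1)
      map_mul' := fun a b => Perm.ext fun t => Subtype.ext (mul_smul a.1 b.1 t.1) }
  have hmem : ∀ l ∈ L ⊓ stabilizer (Perm α) t0, ∀ x, l x ∈ t0 ↔ x ∈ t0 := fun l hl x => by
    conv_lhs => rw [← (mem_stabilizer_iff.1 hl.2)]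
    exact Finset.smul_mem_smul_finset_iff l
  let f0 : (L ⊓ stabilizer (Perm α) t0 : Subgroup (Perm α)) →* Perm {x // x ∈ t0} :=
    { toFun := fun l => l.1.subtypePerm (hmem l.1 l.2)
      map_one' := Perm.ext fun _ => rfl
      map_mul' := fun _ _ => Perm.ext fun _ => rfl }
  have hrange : Nat.card f0.range ∣ k := hk _ (by
    rintro σ ⟨l, rfl⟩
    exact ⟨l.1, l.2.1, fun x => rfl⟩)
  choose h hhL hht using hmove
  have hfix : ∀ (l : ψ.ker) (t : {t // t ∈ P}),
      (h t.1 t.2)⁻¹ * (l.1.1 : Perm α) * h t.1 t.2 ∈ L ⊓ stabilizer (Perm α) t0 := fun l t => by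
    refine Subgroup.mem_inf.2 ⟨L.mul_mem (L.mul_mem (L.inv_mem (hhL _ _)) l.1.2) (hhL _ _), ?_⟩
    have hl : (l.1.1 : Perm α) • t.1 = t.1 :=
      congrArg Subtype.val (Perm.ext_iff.1 (MonoidHom.mem_ker.1 l.2) t)
    show ((h t.1 t.2)⁻¹ * (l.1.1 : Perm α) * h t.1 t.2) • t0 = t0
    rw [mul_smul, mul_smul, hht t.1 t.2, hl, inv_smul_eq_iff, hht t.1 t.2]
  let φ : ψ.ker →* ({t // t ∈ P} → f0.range) :=
    { toFun := fun l t => ⟨f0 ⟨_, hfix l t⟩, _, rfl⟩
      map_one' := funext fun t => Subtype.ext (Perm.ext fun x => Subtype.ext (by simp [f0]))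
      map_mul' := fun a b => funext fun t => Subtype.ext (Perm.ext fun x => Subtype.ext (by
        simp [f0, Perm.mul_apply, Perm.subtypePerm_apply, mul_assoc])) }
  have hφ : Function.Injective φ := fun a b hab => by
    refine Subtype.ext (Subtype.ext (Perm.ext fun x => ?_))
    obtain ⟨t, ht, hx⟩ := hcover x
    have hx' : (h t ht)⁻¹ x ∈ t0 := by
      rw [← hht t ht, ← Finset.inv_smul_mem_iff] at hx
      exact hx
    have := congrArg Subtype.val
      (Perm.ext_iff.1 (congrArg Subtype.val (congrFun hab ⟨t, ht⟩)) ⟨(h t ht)⁻¹ x, hx'⟩)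
    simpa [φ, f0, Perm.mul_apply] using this
  have hcardP : Nat.card {t // t ∈ P} = P.card := by rw [Nat.card_eq_fintype_card, Fintype.card_coe]
  rw [← ψ.ker.card_mul_index, index_ker, mul_comm]
  refine Nat.mul_dvd_mul ?_ ?_
  · exact (card_subgroup_dvd_card _).trans (dvd_of_eq (by rw [Nat.card_perm, hcardP]))
  · refine (card_dvd_of_injective φ hφ).trans ?_
    rw [Nat.card_fun, hcardP]
    exact pow_dvd_pow_of_dvd hrange _

omit [DecidableEq α] in
/-- A solvable transitive group of prime degree. -/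
theorem card_dvd_of_solvable_prime {p : ℕ} [hp : Fact p.Prime] (hα : Nat.card α = p)
    (K : Subgroup (Perm α)) (hK : IsPretransitive K α) (hs : Group.IsSolvable K) :
    Nat.card K ∣ p * (p - 1) := by
  classical
  haveI := hK
  haveI := hs
  haveI : Nontrivial α := Finite.one_lt_card_iff_nontrivial.1 (hα ▸ hp.out.one_lt)
  haveI : IsPreprimitive K α := IsPreprimitive.of_prime_card (hα ▸ hp.out)
  haveI : Nontrivial K := by
    obtain ⟨a, b, hab⟩ := exists_pair_ne α
    obtain ⟨g, hg⟩ := exists_smul_eq K a b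
    exact ⟨g, 1, fun h => hab (by rw [← hg, h, one_smul])⟩
  obtain ⟨A, hAn, hA, hAc⟩ := PrimeDegree.exists_abelian_normal_ne_bot (G := K)
  haveI := hAn
  haveI := hAc
  have hAt : IsPretransitive A α := Perm.normal_isPretransitive_of_ne_bot (X := α) A hA
  obtain ⟨a⟩ : Nonempty α := inferInstance
  have hAcard : Nat.card A = p := by
    have h1 := (stabilizer A a).card_mul_index
    rw [Perm.stabilizer_eq_bot_of_comm_transitive A a, card_bot, one_mul] at h1
    have h2 := index_stabilizer_of_transitive A a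
    rw [Perm.stabilizer_eq_bot_of_comm_transitive A a] at h2
    rw [← h1, h2, hα]
  let A' : Subgroup (Perm α) := A.map K.subtype
  have hA' : Nat.card A' = p := by rw [card_map_of_injective K.subtype_injective, hAcard]
  have hKN : K ≤ normalizer (A' : Set (Perm α)) := fun g hg => by
    rw [mem_normalizer_iff]
    intro x
    constructor
    · rintro ⟨m, hm, rfl⟩
      exact ⟨⟨g, hg⟩ * m * ⟨g, hg⟩⁻¹, hAn.conj_mem m hm _, rfl⟩
    · rintro ⟨m, hm, he⟩
      refine ⟨⟨g, hg⟩⁻¹ * m * ⟨g, hg⟩⁻¹⁻¹, hAn.conj_mem m hm _, ?_⟩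
      simp only [coe_subtype] at he ⊢
      simp [he, mul_assoc]
  have hC : Nat.card (centralizer (A' : Set (Perm α))) = p := by
    refine le_antisymm ?_ (hA' ▸ Nat.le_of_dvd Nat.card_pos
      (card_dvd_of_le (SmallGroups.le_centralizer_of_prime hA')))
    rw [← hα]
    refine Nat.card_le_card_of_injective (fun c : centralizer (A' : Set (Perm α)) => (c.1 : Perm α) a) ?_
    intro c d hcd
    refine Subtype.ext (Perm.ext fun x => ?_)
    obtain ⟨g, hg⟩ := exists_smul_eq A a x
    have hgm : (g.1.1 : Perm α) ∈ A' := ⟨g.1, g.2, rfl⟩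
    have hx : (g.1.1 : Perm α) a = x := hg
    rw [← hx, ← Perm.mul_apply, ← Perm.mul_apply, ← mem_centralizer_iff.1 c.2 _ hgm,
      ← mem_centralizer_iff.1 d.2 _ hgm, Perm.mul_apply, Perm.mul_apply]
    exact congrArg _ hcd
  obtain ⟨e, he, hN⟩ := SmallGroups.exists_card_normalizer_eq hA'
  rw [hC] at hN
  refine (card_dvd_of_le hKN).trans ?_
  rw [hN, mul_comm]
  exact Nat.mul_dvd_mul_left p he

end Cfsg.Agent.Lib.SymHall
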