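import Mathlib

/-!
Binomial coefficients without small prime divisors: the arithmetic behind the Hall subgroups of
the symmetric groups.
-/

set_option autoImplicit false

namespace Cfsg.Agent.Lib.SymHall

open Nat Finset

/-- No carry in any digit when `p` does not divide the binomial coefficient. -/
theorem mod_add_mod_lt {p a b : ℕ} (hp : p.Prime) (h : ¬ p ∣ (a + b).choose a) (i : ℕ) :
    a % p ^ i + b % p ^ i < p ^ i := by
  haveI := Fact.mk hp
  by_contra hc
  have h0 : padicValNat p ((a + b).choose a) = 0 := padicValNat.eq_zero_of_not_dvd h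
  rw [padicValNat_choose (b := max (i + 1) (Nat.log p (a + b) + 1)) (Nat.le_add_right a b) (by omega),
    Finset.card_eq_zero, Finset.filter_eq_empty_iff] at h0
  rcases Nat.eq_zero_or_pos i with rfl | hi
  · simp [Nat.mod_one] at hc
  · refine h0 (x := i) (Finset.mem_Ico.2 ⟨hi, by omega⟩) ?_
    rw [Nat.add_sub_cancel_left]
    omega

/-- A composite number at most `2 b` only has prime factors at most `b`. -/
theorem prime_le_of_dvd_composite {m b p : ℕ} (hm : m ≤ 2 * b + 1) (hm1 : 0 < m) (hc : ¬ m.Prime)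
    (hp : p.Prime) (hd : p ∣ m) : p ≤ b := by
  obtain ⟨k, rfl⟩ := hd
  have hk : 2 ≤ k := by
    by_contra h
    interval_cases k
    · simp at hm1
    · exact hc (by simpa using hp)
  have : p * 2 ≤ p * k := Nat.mul_le_mul_left p hk
  omega

theorem succ_pow_ge_two_mul (m : ℕ) : 2 * (m + 1) ^ (m + 1) ≤ (m + 2) ^ (m + 1) := by
  have hb : ∀ k : ℕ, (m + 1) ^ (k + 1) + (k + 1) * (m + 1) ^ k ≤ (m + 2) ^ (k + 1) := by
    intro k
    induction k with
    | zero => simp
    | succ k ih =>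
      have h1 : (m + 1) ^ (k + 1 + 1) + (k + 1 + 1) * (m + 1) ^ (k + 1) ≤
          ((m + 1) ^ (k + 1) + (k + 1) * (m + 1) ^ k) * (m + 2) := by
        ring_nf
        nlinarith [Nat.zero_le ((1 + m) ^ k), Nat.zero_le (k * (1 + m) ^ k)]
      calc _ ≤ _ := h1
        _ ≤ (m + 2) ^ (k + 1) * (m + 2) := Nat.mul_le_mul_right _ ih
        _ = _ := (pow_succ _ _).symm
  calc 2 * (m + 1) ^ (m + 1) = (m + 1) ^ (m + 1) + (m + 1) * (m + 1) ^ m := by ring
    _ ≤ _ := hb m

theorem factorial_odd_le (m : ℕ) : (2 * m + 1).factorial ≤ (m + 1) ^ (2 * m + 1) := by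
  induction m with
  | zero => simp
  | succ m ih =>
    have h2 := succ_pow_ge_two_mul m
    have h4 : 4 * ((m + 1) ^ (m + 1) * (m + 1) ^ (m + 1)) ≤ (m + 2) ^ (m + 1) * (m + 2) ^ (m + 1) := by
      calc _ = (2 * (m + 1) ^ (m + 1)) * (2 * (m + 1) ^ (m + 1)) := by ring
        _ ≤ _ := Nat.mul_le_mul h2 h2
    calc (2 * (m + 1) + 1).factorial = ((2 * m + 3) * (2 * m + 2)) * (2 * m + 1).factorial := by
          rw [show 2 * (m + 1) + 1 = (2 * m + 1) + 1 + 1 by ring, Nat.factorial_succ, Nat.factorial_succ]; ring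
      _ ≤ ((2 * (m + 2)) * (2 * (m + 1))) * (m + 1) ^ (2 * m + 1) :=
          Nat.mul_le_mul (Nat.mul_le_mul (by omega) (by omega)) ih
      _ = (m + 2) * (4 * ((m + 1) ^ (m + 1) * (m + 1) ^ (m + 1))) := by ring
      _ ≤ (m + 2) * ((m + 2) ^ (m + 1) * (m + 2) ^ (m + 1)) := Nat.mul_le_mul_left _ h4
      _ = (m + 1 + 1) ^ (2 * (m + 1) + 1) := by ring

theorem prod_even_dvd_ascFactorial (b m : ℕ) :
    (∏ i ∈ Finset.range m, (b + 2 * i + 2)) ∣ (b + 1).ascFactorial (2 * m + 1) := by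
  induction m with
  | zero => simp
  | succ m ih =>
    rw [Finset.prod_range_succ, show 2 * (m + 1) + 1 = (2 * m + 1) + 1 + 1 by ring, Nat.ascFactorial_succ,
      Nat.ascFactorial_succ, mul_comm _ (b + 2 * m + 2)]
    exact (Nat.mul_dvd_mul (dvd_of_eq (by ring)) ih).trans (dvd_mul_left _ _)

theorem big_case {m b : ℕ} (hm : 12 ≤ m) (hb : (m + 1) * (2 * m - 6) ≤ b) : (2 * m + 1).factorial < b ^ m := by
  have h1 : ∀ k, 12 ≤ k → (k + 1) * 13 ^ k < 18 ^ k := by
    intro k hk
    induction k, hk using Nat.le_induction with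
    | base => norm_num
    | succ k hk ih =>
      calc (k + 1 + 1) * 13 ^ (k + 1) = ((k + 2) * 13) * 13 ^ k := by ring
        _ ≤ (18 * (k + 1)) * 13 ^ k := Nat.mul_le_mul_right _ (by omega)
        _ = 18 * ((k + 1) * 13 ^ k) := by ring
        _ < 18 * 18 ^ k := by omega
        _ = _ := by ring
  have h2 : (m + 1) ^ (m + 1) < (2 * m - 6) ^ m := by
    have h3 : 18 * (m + 1) ≤ 13 * (2 * m - 6) := by omega
    have h4 : (18 * (m + 1)) ^ m ≤ (13 * (2 * m - 6)) ^ m := Nat.pow_le_pow_left h3 m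
    rw [mul_pow, mul_pow] at h4
    have h5 : (m + 1) ^ (m + 1) * 13 ^ m < 13 ^ m * (2 * m - 6) ^ m := by
      calc (m + 1) ^ (m + 1) * 13 ^ m = ((m + 1) * 13 ^ m) * (m + 1) ^ m := by ring
        _ < 18 ^ m * (m + 1) ^ m := Nat.mul_lt_mul_of_pos_right (h1 m hm) (pow_pos (by omega) _)
        _ ≤ _ := h4
    rw [mul_comm] at h5
    exact Nat.lt_of_mul_lt_mul_left h5
  calc (2 * m + 1).factorial ≤ (m + 1) ^ (2 * m + 1) := factorial_odd_le m
    _ = (m + 1) ^ m * (m + 1) ^ (m + 1) := by ring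
    _ < (m + 1) ^ m * (2 * m - 6) ^ m := Nat.mul_lt_mul_of_pos_left h2 (pow_pos (by omega) _)
    _ = ((m + 1) * (2 * m - 6)) ^ m := (mul_pow _ _ _).symm
    _ ≤ b ^ m := Nat.pow_le_pow_left hb m

theorem small_case : ∀ m ∈ Finset.Icc 1 11, ∀ c ∈ Finset.Icc 1 23,
    (((2 * m + 2) * c + 2) ∣ (2 * m + 1) * (2 * m)) →
    ¬ (2 * m + 1 = 3 ∧ (2 * m + 2) * c = 4) →
    ((∀ d ∈ Finset.Icc 2 (Nat.sqrt ((2 * m + 2) * c + 1)), ¬ d ∣ (2 * m + 2) * c + 1) →
      (∀ d ∈ Finset.Icc 2 (Nat.sqrt ((2 * m + 1) + (2 * m + 2) * c)), ¬ d ∣ (2 * m + 1) + (2 * m + 2) * c) →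
      ∃ p ∈ [2, 3, 5, 7], ∃ i ∈ Finset.range 9, p ≤ (2 * m + 2) * c ∧
        p ^ i ≤ (2 * m + 1) % p ^ i + ((2 * m + 2) * c) % p ^ i) := by
  decide +kernel

theorem dvd_left_of_sum {q a b : ℕ} (h : a % q + b % q < q) (hd : q ∣ a + b) : q ∣ a := by
  have h0 := Nat.mod_eq_zero_of_dvd hd
  rw [Nat.add_mod, Nat.mod_eq_of_lt h] at h0
  exact Nat.dvd_of_mod_eq_zero (Nat.eq_zero_of_add_eq_zero_right h0)

theorem dvd_left_of_succ {q a b : ℕ} (h : a % q + b % q < q) (hd : q ∣ b + 1) : q ∣ a := by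
  obtain ⟨k, hk⟩ := hd
  rcases Nat.lt_or_ge q 2 with hq | hq
  · interval_cases q <;> simp_all
  obtain ⟨r, rfl⟩ : ∃ r, k = r + 1 := ⟨k - 1, by rcases k with - | k <;> simp_all⟩
  have hb : b % q = q - 1 := by
    rw [show b = (q - 1) + q * r by rw [Nat.mul_succ] at hk; omega, Nat.add_mul_mod_self_left,
      Nat.mod_eq_of_lt (by omega)]
  refine Nat.dvd_of_mod_eq_zero ?_
  generalize a % q = x at h ⊢
  omega

theorem dvd_mul_of_add_two {q m b : ℕ} (h : (2 * m + 1) % q + b % q < q) (hd : q ∣ b + 2) :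
    q ∣ (2 * m + 1) * (2 * m) := by
  rcases Nat.lt_or_ge q 3 with hq | hq
  · interval_cases q
    · simp_all
    · exact one_dvd _
    · exact (dvd_mul_right 2 m).mul_left _
  obtain ⟨k, hk⟩ := hd
  obtain ⟨r, rfl⟩ : ∃ r, k = r + 1 := ⟨k - 1, by rcases k with - | k <;> simp_all⟩
  have hb : b % q = q - 2 := by
    rw [show b = (q - 2) + q * r by rw [Nat.mul_succ] at hk; omega, Nat.add_mul_mod_self_left,
      Nat.mod_eq_of_lt (by omega)]
  have he : (2 * m + 1) % q = 0 ∨ (2 * m + 1) % q = 1 := by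
    generalize (2 * m + 1) % q = x at h ⊢
    omega
  rcases he with he | he
  · exact (Nat.dvd_of_mod_eq_zero he).mul_right _
  · refine Dvd.dvd.mul_left ⟨(2 * m + 1) / q, ?_⟩ _
    have := Nat.div_add_mod (2 * m + 1) q
    omega

/-- If `2 ≤ a ≤ b` and the binomial coefficient `(a+b).choose a` has no prime divisor at most
`b`, then `a = 3` and `b = 4`. -/
theorem choose_no_small_prime {a b : ℕ} (ha : 2 ≤ a) (hab : a ≤ b)
    (h : ∀ p, p.Prime → p ≤ b → ¬ p ∣ (a + b).choose a) : a = 3 ∧ b = 4 := by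
  have hmod : ∀ p i, p.Prime → p ≤ b → a % p ^ i + b % p ^ i < p ^ i := fun p i hp hpb =>
    mod_add_mod_lt hp (h p hp hpb) i
  -- `a + b` is prime
  have hn : (a + b).Prime := by
    by_contra hc
    have : a + b ∣ a := by
      rw [Nat.dvd_iff_prime_pow_dvd_dvd]
      intro p k hp hd
      rcases Nat.eq_zero_or_pos k with rfl | hk
      · simp
      exact dvd_left_of_sum (hmod p k hp (prime_le_of_dvd_composite (by omega) (by omega) hc hp
        ((dvd_pow_self p hk.ne').trans hd))) hd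
    have := Nat.le_of_dvd (by omega) this
    omega
  have hnodd : (a + b) % 2 = 1 := hn.eq_two_or_odd.resolve_left (by omega)
  -- `b + 1` is prime
  have hb1 : (b + 1).Prime := by
    by_contra hc
    have : b + 1 ∣ a := by
      rw [Nat.dvd_iff_prime_pow_dvd_dvd]
      intro p k hp hd
      rcases Nat.eq_zero_or_pos k with rfl | hk
      · simp
      exact dvd_left_of_succ (hmod p k hp (prime_le_of_dvd_composite (by omega) (by omega) hc hp
        ((dvd_pow_self p hk.ne').trans hd))) hd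
    have := Nat.le_of_dvd (by omega) this
    omega
  have hbodd : (b + 1) % 2 = 1 := hb1.eq_two_or_odd.resolve_left (by omega)
  obtain ⟨m, rfl⟩ : ∃ m, a = 2 * m + 1 := ⟨a / 2, by omega⟩
  -- `a + 1` divides `b`
  have hdb : 2 * m + 2 ∣ b := by
    rw [Nat.dvd_iff_prime_pow_dvd_dvd]
    intro p k hp hd
    rcases Nat.eq_zero_or_pos k with rfl | hk
    · simp
    have hpb : p ≤ b := (Nat.le_of_dvd (by omega) ((dvd_pow_self p hk.ne').trans hd)).trans (by omega)
    have hlt := hmod p k hp hpb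
    exact dvd_left_of_succ (q := p ^ k) (a := b) (b := 2 * m + 1) (by rw [add_comm]; exact hlt) hd
  obtain ⟨c, rfl⟩ := hdb
  -- `b + 2` divides `a (a - 1)`
  set b := (2 * m + 2) * c with hbdef
  have hN : b + 2 ∣ (2 * m + 1) * (2 * m) := by
    rw [Nat.dvd_iff_prime_pow_dvd_dvd]
    intro p k hp hd
    rcases Nat.eq_zero_or_pos k with rfl | hk
    · simp
    have hnp : ¬ (b + 2).Prime := fun hP => by
      have := hP.eq_two_or_odd
      omega
    exact dvd_mul_of_add_two (hmod p k hp (prime_le_of_dvd_composite (by omega) (by omega) hnp hp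
      ((dvd_pow_self p hk.ne').trans hd))) hd
  rcases Nat.lt_or_ge m 12 with hm | hm
  · have hc : c ∈ Finset.Icc 1 23 := by
      have h2 := Nat.le_of_dvd (Nat.mul_pos (by omega) (by omega)) hN
      rw [Finset.mem_Icc]
      constructor
      · by_contra hc0
        obtain rfl : c = 0 := by omega
        omega
      · by_contra hc0
        have : (2 * m + 2) * 24 ≤ b := Nat.mul_le_mul_left _ (by omega)
        have : (2 * m + 1) * (2 * m) ≤ (2 * m + 1) * 22 := Nat.mul_le_mul_left _ (by omega)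
        omega
    have hx := small_case m (Finset.mem_Icc.2 ⟨by omega, by omega⟩) c hc hN
    by_cases hex : 2 * m + 1 = 3 ∧ b = 4
    · exact hex
    exfalso
    have hpr : ∀ {N : ℕ}, N.Prime → ∀ d ∈ Finset.Icc 2 (Nat.sqrt N), ¬ d ∣ N := fun {N} hN' d hd hdv => by
      rw [Finset.mem_Icc] at hd
      rcases hN'.eq_one_or_self_of_dvd d hdv with h1 | h1
      · omega
      · have := Nat.sqrt_lt_self hN'.one_lt
        omega
    obtain ⟨p, hp, i, -, hpb, hge⟩ := hx hex (hpr hb1) (hpr hn)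
    simp only [List.mem_cons, List.not_mem_nil, or_false] at hp
    have hp' : p.Prime := by rcases hp with rfl | rfl | rfl | rfl <;> norm_num
    exact absurd (hmod p i hp' hpb) (not_lt.2 hge)
  · exfalso
    have hgcd : (b + 2) ∣ (b + 2).gcd (2 * m + 1) * (b + 2).gcd (2 * m) :=
      (dvd_gcd_mul_gcd_iff_dvd_mul (k := b + 2)).2 hN
    have h1 : (b + 2).gcd (2 * m + 1) ∣ c + 2 := by
      have e : b + 2 = (2 * m + 1) * c + (c + 2) := by rw [hbdef]; ring
      have hg := Nat.gcd_dvd_left (b + 2) (2 * m + 1)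
      rw [e] at hg ⊢
      exact (Nat.dvd_add_right ((Nat.gcd_dvd_right _ _).mul_right c)).1 hg
    have h2 : (b + 2).gcd (2 * m) ∣ 2 * c + 2 := by
      have e : b + 2 = (2 * m) * c + (2 * c + 2) := by rw [hbdef]; ring
      have hg := Nat.gcd_dvd_left (b + 2) (2 * m)
      rw [e] at hg ⊢
      exact (Nat.dvd_add_right ((Nat.gcd_dvd_right _ _).mul_right c)).1 hg
    have hle := Nat.le_of_dvd (Nat.mul_pos (by omega) (by omega)) (hgcd.trans (Nat.mul_dvd_mul h1 h2))
    have hc : m - 3 ≤ c := by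
      by_contra hcon
      have h6 : (2 * m + 2) * c ≥ (2 * c + 10) * c := Nat.mul_le_mul_right c (by omega)
      have hc1 : 1 ≤ c := by
        by_contra h0
        obtain rfl : c = 0 := by omega
        omega
      nlinarith
    have hbb : (m + 1) * (2 * m - 6) ≤ b := by
      calc (m + 1) * (2 * m - 6) = (m + 1) * (2 * (m - 3)) := by congr 1; omega
        _ ≤ (m + 1) * (2 * c) := Nat.mul_le_mul_left _ (by omega)
        _ = b := by rw [hbdef]; ring
    have hbig := big_case hm hbb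
    have hd := prod_even_dvd_ascFactorial b m
    rw [Nat.ascFactorial_eq_factorial_mul_choose] at hd
    have hco : Nat.Coprime (∏ i ∈ Finset.range m, (b + 2 * i + 2)) ((b + (2 * m + 1)).choose (2 * m + 1)) := by
      refine Nat.Coprime.prod_left fun i hi => ?_
      refine Nat.coprime_of_dvd fun p hp hd1 hd2 => ?_
      rw [Finset.mem_range] at hi
      have hnp : ¬ (b + 2 * i + 2).Prime := fun hP => by
        have := hP.eq_two_or_odd
        omega
      exact h p hp (prime_le_of_dvd_composite (by omega) (by omega) hnp hp hd1) (by rw [add_comm _ b]; exact hd2)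
    have hle2 := Nat.le_of_dvd (Nat.factorial_pos _) (hco.dvd_of_dvd_mul_right hd)
    have hpow : b ^ m ≤ ∏ i ∈ Finset.range m, (b + 2 * i + 2) := by
      calc b ^ m = ∏ _i ∈ Finset.range m, b := by simp
        _ ≤ _ := Finset.prod_le_prod' fun i _ => by omega
    omega

end Cfsg.Agent.Lib.SymHall
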