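import Mathlib
import Cfsg.Agent.Lib.SymHall.Arith

/-!
The possible degrees for a Hall subgroup of a symmetric group, from the arithmetic conditions given
by an invariant set or an invariant partition.
-/

set_option autoImplicit false

namespace Cfsg.Agent.Lib.SymHall

/-- at least two primes of `π` are at most `n` -/
def TwoPrimes (π : Set ℕ) (n : ℕ) : Prop :=
  ∃ r s : ℕ, r.Prime ∧ s.Prime ∧ r ≠ s ∧ r ∈ π ∧ s ∈ π ∧ r ≤ n ∧ s ≤ n

/-- all primes at most `n` are in `π` -/
def AllPrimes (π : Set ℕ) (n : ℕ) : Prop :=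
  ∀ r : ℕ, r.Prime → r ≤ n → r ∈ π

/-- `n` is prime and the primes of `π` up to `n` are those below `n` -/
def PrimeType (π : Set ℕ) (n : ℕ) : Prop :=
  n.Prime ∧ ∀ r : ℕ, r.Prime → r ≤ n → (r ∈ π ↔ r < n)

/-- the primes of `π` up to `n` are `2` and `3` -/
def TwoThree (π : Set ℕ) (n : ℕ) : Prop :=
  ∀ r : ℕ, r.Prime → r ≤ n → (r ∈ π ↔ r = 2 ∨ r = 3)

/-- the degrees that occur -/
def Shape (π : Set ℕ) (n : ℕ) : Prop :=
  PrimeType π n ∨ ((n = 7 ∨ n = 8) ∧ TwoThree π n)

variable {π : Set ℕ}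

theorem TwoPrimes.three_le {n : ℕ} (h : TwoPrimes π n) : 3 ≤ n := by
  obtain ⟨r, s, hr, hs, hne, -, -, hrn, hsn⟩ := h
  have := hr.two_le
  have := hs.two_le
  omega

theorem choose_odd_of_bits {n a : ℕ} (h : ¬ 2 ∣ n.choose a) (hn : n = a + a) : a = 0 := by
  subst hn
  rcases Nat.eq_zero_or_pos a with h0 | h0
  · exact h0
  · exfalso
    obtain ⟨k, rfl⟩ : ∃ k, a = k + 1 := ⟨a - 1, by omega⟩
    exact h (by
      have := Nat.two_dvd_centralBinom_succ k
      rwa [Nat.centralBinom_eq_two_mul_choose, show 2 * (k + 1) = k + 1 + (k + 1) by ring] at this)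

theorem small_E : ∀ b ∈ ([7, 8] : List ℕ), ∀ a ∈ List.range 9, 1 ≤ a → a ≤ b →
    2 ∣ (a + b).choose a ∨ 3 ∣ (a + b).choose a := by decide +kernel

/-- The arithmetic of an invariant set of size `a ≤ b`. -/
theorem intransitive_shape {a b : ℕ} (ha : 1 ≤ a) (hab : a ≤ b)
    (hC : ∀ p : ℕ, p.Prime → p ∈ π → ¬ p ∣ (a + b).choose a) (h2 : TwoPrimes π (a + b))
    (hr : ∃ r : ℕ, r.Prime ∧ r ≤ a + b ∧ r ∉ π)
    (hb : TwoPrimes π b → AllPrimes π b ∨ Shape π b) :
    (a = 1 ∧ PrimeType π (a + b)) ∨ (a = 3 ∧ b = 4 ∧ TwoThree π (a + b)) := by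
  have hle : ∀ p : ℕ, p.Prime → p ∈ π → p ≤ a + b → p ≤ b := fun p hp hpπ hpn => by
    by_contra h
    exact hC p hp hpπ (hp.dvd_choose_add (by omega) (by omega) hpn)
  have h2b : TwoPrimes π b := by
    obtain ⟨r, s, hr, hs, hne, hrπ, hsπ, hrn, hsn⟩ := h2
    exact ⟨r, s, hr, hs, hne, hrπ, hsπ, hle r hr hrπ hrn, hle s hs hsπ hsn⟩
  have h3 := h2b.three_le
  rcases hb h2b with hall | ⟨hbp, hbπ⟩ | ⟨hb78, hb23⟩
  · rcases Nat.lt_or_ge a 2 with ha1 | ha2
    · obtain rfl : a = 1 := by omega
      left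
      have hn : (1 + b).Prime := by
        by_contra hc
        obtain ⟨p, hp, hd⟩ := Nat.exists_prime_and_dvd (show 1 + b ≠ 1 by omega)
        have hpb := prime_le_of_dvd_composite (b := b) (by omega) (by omega) hc hp hd
        exact hC p hp (hall p hp hpb) (by rwa [Nat.choose_one_right])
      refine ⟨rfl, hn, fun r hr hrn => ⟨fun hrπ => ?_, fun h => hall r hr (by omega)⟩⟩
      have := hle r hr hrπ hrn
      omega
    · obtain ⟨rfl, rfl⟩ := choose_no_small_prime ha2 hab fun p hp hpb => hC p hp (hall p hp hpb)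
      refine Or.inr ⟨rfl, rfl, fun r hr hrn => ⟨fun hrπ => ?_, fun h => ?_⟩⟩
      · have := hle r hr hrπ hrn
        interval_cases r <;> first | omega | norm_num at hr
      · rcases h with rfl | rfl <;> exact hall _ hr (by norm_num)
  · exfalso
    have hbodd : b % 2 = 1 := hbp.eq_two_or_odd.resolve_left (by omega)
    have h2π : 2 ∈ π := (hbπ 2 Nat.prime_two (by omega)).2 (by omega)
    rcases Nat.lt_or_ge a 2 with ha1 | ha2
    · obtain rfl : a = 1 := by omega
      exact hC 2 Nat.prime_two h2π (by rw [Nat.choose_one_right]; omega)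
    have haeq : a = b - 1 := by
      rcases Nat.eq_or_lt_of_le hab with rfl | hlt
      · have := choose_odd_of_bits (hC 2 Nat.prime_two h2π) rfl
        omega
      by_contra hne
      obtain ⟨p, hp, hd⟩ := Nat.exists_prime_and_dvd (show a + 1 ≠ 1 by omega)
      have hpb : p < b := lt_of_le_of_lt (Nat.le_of_dvd (by omega) hd) (by omega)
      have he : (a + b).choose (a + 1) * (a + 1) = (a + b).choose a * b := by
        rw [Nat.choose_succ_right_eq, Nat.add_sub_cancel_left]
      rcases hp.dvd_mul.1 (he ▸ hd.mul_left _) with h | h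
      · exact hC p hp ((hbπ p hp hpb.le).2 hpb) h
      · exact hpb.ne ((Nat.prime_dvd_prime_iff_eq hp hbp).1 h)
    subst haeq
    have := choose_no_small_prime ha2 hab fun p hp hpb => by
      rcases Nat.eq_or_lt_of_le hpb with rfl | hlt
      · haveI := Fact.mk hp
        intro hd
        have hm := Choose.choose_modEq_choose_mod_mul_choose_div_nat (p := p) (n := p - 1 + p) (k := p - 1)
        have e1 : (p - 1 + p) % p = p - 1 := by rw [Nat.add_mod_right, Nat.mod_eq_of_lt (by omega)]
        have e2 : (p - 1 + p) / p = 1 := Nat.div_eq_of_lt_le (by omega) (by omega)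
        rw [e1, e2, Nat.mod_eq_of_lt (show p - 1 < p by omega), Nat.div_eq_of_lt (show p - 1 < p by omega),
          Nat.choose_self, Nat.choose_zero_right, mul_one] at hm
        have h0 : (p - 1 + p).choose (p - 1) % p = 1 % p := hm
        rw [Nat.mod_eq_zero_of_dvd hd, Nat.mod_eq_of_lt hp.one_lt] at h0
        omega
      · exact hC p hp ((hbπ p hp hpb).2 hlt)
    omega
  · exfalso
    have h23 : ∀ p, p = 2 ∨ p = 3 → p ∈ π := fun p hp => by
      rcases hp with rfl | rfl
      · exact (hb23 2 Nat.prime_two (by omega)).2 (Or.inl rfl)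
      · exact (hb23 3 Nat.prime_three (by omega)).2 (Or.inr rfl)
    rcases small_E b (by simpa using hb78) a (List.mem_range.2 (by omega)) ha hab with h | h
    · exact hC 2 Nat.prime_two (h23 2 (Or.inl rfl)) h
    · exact hC 3 Nat.prime_three (h23 3 (Or.inr rfl)) h

theorem eq_pow_of_digitSum_one {q : ℕ} (hq : 2 ≤ q) : ∀ b : ℕ, (q.digits b).sum = 1 → ∃ i, b = q ^ i := by
  intro b
  induction b using Nat.strong_induction_on with
  | _ b ih =>
    intro h
    rcases Nat.eq_zero_or_pos b with rfl | hb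
    · simp at h
    rw [Nat.digits_def' (by omega) hb, List.sum_cons] at h
    have hdiv := Nat.div_add_mod b q
    rcases Nat.eq_zero_or_pos (b / q) with h0 | h0
    · refine ⟨0, ?_⟩
      rw [h0, Nat.digits_zero, List.sum_nil, add_zero] at h
      rw [h0, mul_zero, zero_add] at hdiv
      rw [pow_zero]
      omega
    · obtain ⟨c, hc, hcs⟩ : ∃ c, c = b / q ∧ 1 ≤ (q.digits c).sum := by
        refine ⟨_, rfl, ?_⟩
        by_contra hs
        have := List.sum_eq_zero_iff.1 (Nat.lt_one_iff.1 (not_le.1 hs))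
        have hne : q.digits (b / q) ≠ [] := Nat.digits_ne_nil_iff_ne_zero.2 h0.ne'
        exact Nat.getLast_digit_ne_zero q h0.ne' (this _ (List.getLast_mem hne))
      obtain ⟨i, hi⟩ := ih (b / q) (Nat.div_lt_self hb (by omega)) (by rw [← hc] at h ⊢; omega)
      refine ⟨i + 1, ?_⟩
      rw [show b % q = 0 by rw [← hc] at h; omega, add_zero, hi] at hdiv
      rw [pow_succ']
      exact hdiv.symm

theorem uniformBell_dvd {k a b : ℕ} (h : k ≤ a) : Nat.uniformBell k b ∣ Nat.uniformBell a b := by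
  rw [Nat.uniformBell_eq, Nat.uniformBell_eq]
  exact Finset.prod_dvd_prod_of_subset _ _ _ (Finset.range_mono h)

theorem digitSum_eq_one {p b : ℕ} (hp : p.Prime) (hb : 1 ≤ b) (h : ¬ p ∣ Nat.uniformBell p b) :
    (p.digits b).sum = 1 := by
  haveI := Fact.mk hp
  have he := congrArg (padicValNat p) (Nat.uniformBell_mul_eq p (n := b) (by omega))
  rw [padicValNat.mul (mul_ne_zero (fun h0 => h (by rw [h0]; exact dvd_zero p)) (pow_ne_zero _ (Nat.factorial_ne_zero b)))
      (Nat.factorial_ne_zero p), padicValNat.mul (fun h0 => h (by rw [h0]; exact dvd_zero p)) (pow_ne_zero _ (Nat.factorial_ne_zero b)),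
    padicValNat.eq_zero_of_not_dvd h, padicValNat.pow, zero_add] at he
  have h1 := sub_one_mul_padicValNat_factorial (p := p) (p * b)
  have h2 := sub_one_mul_padicValNat_factorial (p := p) b
  have h3 := sub_one_mul_padicValNat_factorial (p := p) p
  have hs : (p.digits (p * b)).sum = (p.digits b).sum := by
    rw [Nat.digits_def' hp.one_lt (Nat.mul_pos hp.pos hb), Nat.mul_mod_right, Nat.mul_div_cancel_left _ hp.pos]
    simp
  have hsp : (p.digits p).sum = 1 := by
    rw [Nat.digits_def' hp.one_lt hp.pos, Nat.mod_self, Nat.div_self hp.pos,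
      Nat.digits_of_lt p 1 one_ne_zero hp.one_lt]
    simp
  rw [hs] at h1
  rw [hsp] at h3
  have hle := Nat.digit_sum_le p b
  have hle1 : 1 ≤ p := hp.pos
  have e : ((p - 1) * padicValNat p (p * b).factorial : ℕ) =
      p * (b - (p.digits b).sum) + (p - 1) := by
    rw [← he, mul_add, ← mul_assoc, mul_comm (p - 1) p, mul_assoc, h2, h3]
  rw [h1, Nat.mul_sub] at e
  generalize (p.digits b).sum = s at *
  have hsb : p * s ≤ p * b := Nat.mul_le_mul_left p hle
  have h4 : (p - 1) * s = p - 1 := by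
    have : p * s = (p - 1) * s + s := by
      conv_lhs => rw [show p = (p - 1) + 1 by omega, Nat.add_mul, one_mul]
    omega
  exact (Nat.mul_eq_left (show p - 1 ≠ 0 by have := hp.two_le; omega)).1 h4

theorem three_pow_eq_two_pow_add_one {i j : ℕ} (h : 3 ^ j = 2 ^ i + 1) : i = 1 ∨ i = 3 := by
  rcases Nat.lt_or_ge i 4 with hi | hi
  · interval_cases i
    · exfalso
      norm_num at h
      rcases Nat.eq_zero_or_pos j with rfl | hj
      · simp at h
      · have := Nat.le_self_pow hj.ne' 3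
        omega
    · exact Or.inl rfl
    · exfalso
      norm_num at h
      rcases j with - | - | j
      · simp at h
      · simp at h
      · simp [pow_succ] at h
        omega
    · exact Or.inr rfl
  · exfalso
    obtain ⟨t, rfl⟩ : ∃ t, i = t + 4 := ⟨i - 4, by omega⟩
    have h16 : 3 ^ j % 16 = 1 := by rw [h, pow_add]; omega
    have hj : 4 ∣ j := by
      have e := Nat.div_add_mod j 4
      rw [← e, pow_add, pow_mul, Nat.mul_mod, Nat.pow_mod] at h16
      norm_num at h16
      have : j % 4 < 4 := Nat.mod_lt _ (by norm_num)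
      interval_cases hjm : j % 4 <;> simp_all (config := { decide := true }) [Nat.dvd_iff_mod_eq_zero]
    obtain ⟨k, rfl⟩ := hj
    have h5 : 5 ∣ 2 ^ (t + 4) := by
      have e : 81 ^ k % 5 = 1 := by rw [Nat.pow_mod]; norm_num
      rw [show (81 : ℕ) = 3 ^ 4 by norm_num, ← pow_mul, h] at e
      generalize 2 ^ (t + 4) = x at e ⊢
      omega
    have := Nat.prime_five.dvd_of_dvd_pow h5
    norm_num at this

/-- The arithmetic of an invariant partition into `a` blocks of size `b`. -/
theorem imprimitive_shape {a b : ℕ} (ha : 2 ≤ a) (hb : 2 ≤ b)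
    (hdiv : ∀ p : ℕ, p.Prime → p ∣ a * b → p ∈ π)
    (hU : ∀ p : ℕ, p.Prime → p ∈ π → ¬ p ∣ Nat.uniformBell a b) (h2 : TwoPrimes π (a * b))
    (hbt : TwoPrimes π b → AllPrimes π b ∨ Shape π b) :
    a = 2 ∧ b = 4 ∧ TwoThree π (a * b) := by
  have hpow : ∀ p : ℕ, p.Prime → p ∈ π → p ≤ a → ∃ i, b = p ^ i := fun p hp hpπ hpa =>
    eq_pow_of_digitSum_one hp.two_le b
      (digitSum_eq_one hp (by omega) fun hd => hU p hp hpπ (hd.trans (uniformBell_dvd hpa)))
  obtain ⟨q, hq, hqa⟩ := Nat.exists_prime_and_dvd (show a ≠ 1 by omega)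
  have hqπ : q ∈ π := hdiv q hq (hqa.mul_right b)
  have hqle : q ≤ a := Nat.le_of_dvd (by omega) hqa
  obtain ⟨i, hi⟩ := hpow q hq hqπ hqle
  have hi0 : i ≠ 0 := by rintro rfl; simp at hi; omega
  have huniq : ∀ p : ℕ, p.Prime → p ∈ π → p ≤ a → p = q := fun p hp hpπ hpa => by
    obtain ⟨j, hj⟩ := hpow p hp hpπ hpa
    have hj0 : j ≠ 0 := by rintro rfl; simp at hj; omega
    exact (Nat.prime_dvd_prime_iff_eq hp hq).1 (hp.dvd_of_dvd_pow (hi ▸ hj ▸ dvd_pow_self p hj0))
  have hqb : q ≤ b := hi ▸ Nat.le_self_pow hi0 q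
  have hle : ∀ p : ℕ, p.Prime → p ∈ π → p ≤ a * b → p ≤ b := fun p hp hpπ hpn => by
    rcases Nat.lt_or_ge a p with h | h
    · by_contra hc
      refine hU p hp hpπ ?_
      have he := Nat.uniformBell_mul_eq a (n := b) (by omega)
      have hd : p ∣ (a * b).factorial := hp.dvd_factorial.2 hpn
      rw [← he] at hd
      rcases hp.dvd_mul.1 hd with h' | h'
      · rcases hp.dvd_mul.1 h' with h'' | h''
        · exact h''
        · exact absurd (hp.dvd_factorial.1 (hp.dvd_of_dvd_pow h'')) hc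
      · exact absurd (hp.dvd_factorial.1 h') (by omega)
    · rw [huniq p hp hpπ h]; exact hqb
  have hdig : ∀ p : ℕ, p.Prime → p ∈ π → p ≠ 2 → ∀ k, b % p ^ k + b % p ^ k < p ^ k := fun p hp hpπ hp2 k => by
    refine mod_add_mod_lt hp (fun hd => ?_) k
    obtain ⟨c, rfl⟩ : ∃ c, b = c + 1 := ⟨b - 1, by omega⟩
    have hch : (c + 1 + (c + 1)).choose (c + 1) = 2 * (c + 1 + c).choose c := by
      rw [show c + 1 + (c + 1) = (c + 1 + c) + 1 by ring, Nat.choose_succ_succ,
        show (c + 1 + c).choose (c + 1) = (c + 1 + c).choose c from Nat.choose_symm_of_eq_add (by ring)]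
      ring
    rw [hch] at hd
    rcases hp.dvd_mul.1 hd with h | h
    · exact hp2 ((Nat.prime_dvd_prime_iff_eq hp Nat.prime_two).1 h)
    · refine hU p hp hpπ (h.trans (Dvd.dvd.trans ?_ (uniformBell_dvd (b := c + 1) ha)))
      rw [Nat.uniformBell_succ_left]
      exact Dvd.dvd.mul_right (dvd_of_eq (by congr 1; omega)) _
  have h2b : TwoPrimes π b := by
    obtain ⟨r, s, hr, hs, hne, hrπ, hsπ, hrn, hsn⟩ := h2
    exact ⟨r, s, hr, hs, hne, hrπ, hsπ, hle r hr hrπ hrn, hle s hs hsπ hsn⟩
  have h3b := h2b.three_le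
  rcases hbt h2b with hall | ⟨hbp, hbπ⟩ | ⟨hb78, hb23⟩
  · have hq2 : q = 2 := (huniq 2 Nat.prime_two (hall 2 Nat.prime_two (by omega)) ha).symm
    subst hq2
    have ha2 : a = 2 := by
      by_contra hne
      exact absurd (huniq 3 Nat.prime_three (hall 3 Nat.prime_three h3b) (by omega)) (by norm_num)
    subst ha2
    have h3 := hdig 3 Nat.prime_three (hall 3 Nat.prime_three h3b) (by norm_num) 1
    obtain ⟨j, hj⟩ : ∃ j, i = 2 * j := by
      refine ⟨i / 2, ?_⟩
      by_contra hodd
      have : i = 2 * (i / 2) + 1 := by omega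
      rw [hi, this, pow_succ, pow_mul, pow_one, Nat.mul_mod, Nat.pow_mod] at h3
      norm_num at h3
    have hb4 : b = 4 := by
      by_contra hne
      have hj2 : 2 ≤ j := by
        rcases j with - | - | j
        · omega
        · exact absurd (by rw [hi, hj]; norm_num) hne
        · omega
      rcases Nat.eq_or_lt_of_le hj2 with hj' | hj'
      · have h9 := hdig 3 Nat.prime_three (hall 3 Nat.prime_three h3b) (by norm_num) 2
        rw [hi, hj, ← hj'] at h9
        norm_num at h9
      obtain ⟨p, hp, hd, hp3⟩ : ∃ p : ℕ, p.Prime ∧ p ∣ 2 ^ (i - 1) + 1 ∧ p ≠ 3 := by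
        by_contra hcon
        push Not at hcon
        have hpe := Nat.eq_prime_pow_of_unique_prime_dvd (Nat.succ_ne_zero _)
          (p := 3) (fun {d} hd hdd => hcon d hd hdd)
        rcases three_pow_eq_two_pow_add_one hpe.symm with h | h <;> omega
      have hp2 : p ≠ 2 := by
        rintro rfl
        have : 2 ∣ 2 ^ (i - 1) := dvd_pow_self 2 (by omega)
        omega
      have hp5 : 5 ≤ p := by
        have := hp.two_le
        by_contra hlt
        interval_cases p <;> first | contradiction | norm_num at hp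
      have hbe : b = 2 * 2 ^ (i - 1) := by rw [hi, ← pow_succ']; congr 1; omega
      have hpb : p ≤ b := by
        have := Nat.le_of_dvd (by positivity) hd
        have : 1 ≤ 2 ^ (i - 1) := Nat.one_le_two_pow
        omega
      have h := hdig p hp (hall p hp hpb) hp2 1
      rw [pow_one] at h
      have hmod : b % p = p - 2 := by
        obtain ⟨k, hk⟩ := hd
        have hk1 : 1 ≤ k := by
          by_contra hk0
          obtain rfl : k = 0 := by omega
          simp at hk
        have hb' : b = (p - 2) + p * (2 * k - 1) := by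
          rw [Nat.mul_sub, mul_one, mul_left_comm, ← hk]
          have : p ≤ 2 * (2 ^ (i - 1) + 1) := by
            have := Nat.le_of_dvd (by positivity) (Dvd.intro k hk.symm)
            omega
          omega
        rw [hb', Nat.add_mul_mod_self_left, Nat.mod_eq_of_lt (by omega)]
      omega
    refine ⟨rfl, hb4, fun r hr hrn => ⟨fun hrπ => ?_, fun h => ?_⟩⟩
    · have := hle r hr hrπ hrn
      subst hb4
      interval_cases r <;> first | omega | norm_num at hr
    · rcases h with rfl | rfl <;> exact hall _ hr (by omega)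
  · exfalso
    have : q = b := (Nat.prime_dvd_prime_iff_eq hq hbp).1 (hi ▸ dvd_pow_self q hi0)
    exact lt_irrefl b ((hbπ b hbp le_rfl).1 (this ▸ hqπ))
  · exfalso
    have h3π : 3 ∈ π := (hb23 3 Nat.prime_three h3b).2 (Or.inr rfl)
    have h2π : 2 ∈ π := (hb23 2 Nat.prime_two (by omega)).2 (Or.inl rfl)
    have hq2 : q = 2 := (huniq 2 Nat.prime_two h2π ha).symm
    subst hq2
    rcases hb78 with rfl | rfl
    · have : 2 ∣ 7 := hi ▸ dvd_pow_self 2 hi0
      omega
    · have h := hdig 3 Nat.prime_three h3π (by norm_num) 1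
      norm_num at h

end Cfsg.Agent.Lib.SymHall
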