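import Mathlib
import Cfsg.Agent.Lib.SymHall.Tools
import Cfsg.Agent.Lib.SymHall.Shapes
import Cfsg.Agent.Lib.Burnside.Paqb
import Cfsg.Agent.Lib.SmallGroups.Basic

/-!
A Hall subgroup of a symmetric or alternating group is never primitive (outside the trivial cases).
-/

set_option autoImplicit false

namespace Cfsg.Agent.Lib.SymHall

open Equiv Subgroup MulAction

variable {α : Type*} [Fintype α] [DecidableEq α] {π : Set ℕ} {G H : Subgroup (Perm α)}

/-- A Hall subgroup contains a conjugate of every element of prime order `p ∈ π` of `G`. -/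
theorem exists_conj_mem (hH : Cfsg.IsPiHallOf π H G) {p : ℕ} [hp : Fact p.Prime] (hpπ : p ∈ π)
    {c : Perm α} (hc : c ∈ G) (ho : orderOf c = p) : ∃ g : Perm α, g * c * g⁻¹ ∈ H := by
  obtain ⟨hle, -, hidx⟩ := (Hall.isPiHallOf_iff H G).1 hH
  let P : Sylow p (H.subgroupOf G) := default
  have hpP : IsPGroup p ((P : Subgroup (H.subgroupOf G)).map (H.subgroupOf G).subtype) := P.isPGroup'.map _
  have hnd : ¬ p ∣ ((P : Subgroup (H.subgroupOf G)).map (H.subgroupOf G).subtype).index := by
    rw [index_map_subtype]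
    intro hd
    rcases hp.out.dvd_mul.1 hd with h | h
    · exact P.not_dvd_index h
    · exact hidx p hp.out h hpπ
  let Q : Sylow p G := hpP.toSylow hnd
  have hz : IsPGroup p (zpowers (⟨c, hc⟩ : G)) := IsPGroup.of_card (n := 1) (by
    rw [Nat.card_zpowers, pow_one, Subgroup.orderOf_mk, ho])
  obtain ⟨R, hR⟩ := hz.exists_le_sylow
  obtain ⟨g, hg⟩ := MulAction.exists_smul_eq G R Q
  refine ⟨g.1, ?_⟩
  have hmem : g * (⟨c, hc⟩ : G) * g⁻¹ ∈ (Q : Subgroup G) := by
    rw [← hg, Sylow.coe_subgroup_smul]
    exact ⟨⟨c, hc⟩, hR (mem_zpowers _), rfl⟩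
  obtain ⟨y, -, hy⟩ := hmem
  have h2 := y.2
  rw [mem_subgroupOf] at h2
  have e : ((y : G) : Perm α) = g.1 * c * g.1⁻¹ := congrArg Subtype.val hy
  rwa [e] at h2

/-- A cycle on the first letters. -/
theorem exists_cycle {p : ℕ} (h2 : 2 ≤ p) (hp : p ≤ Fintype.card α) :
    ∃ c : Perm α, c.cycleType = {p} := by
  obtain ⟨l, hl, hnd⟩ : ∃ l : List α, l.length = p ∧ l.Nodup := by
    obtain ⟨s, -, hs⟩ := Finset.exists_subset_card_eq (s := (Finset.univ : Finset α)) (n := p) (by simpa using hp)
    exact ⟨s.toList, by simpa using hs, s.nodup_toList⟩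
  refine ⟨l.formPerm, ?_⟩
  have hcyc := List.isCycle_formPerm hnd (by omega)
  rw [hcyc.cycleType, List.support_formPerm_of_nodup l hnd (fun x => by
    intro h; rw [h] at hl; simp at hl; omega), List.card_toFinset, hnd.dedup, hl]

theorem alt_card_aux {n : ℕ} (hn : 5 ≤ n) : 8 ∣ n.factorial := by
  exact (by decide : 8 ∣ (5 : ℕ).factorial).trans (Nat.factorial_dvd_factorial hn)

theorem not_primitive (hG : alternatingGroup α ≤ G) (hH : Cfsg.IsPiHallOf π H G)
    (h2 : TwoPrimes π (Fintype.card α)) (hr : ∃ r : ℕ, r.Prime ∧ r ≤ Fintype.card α ∧ r ∉ π) :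
    ¬ IsPreprimitive H α := by
  intro hprim
  classical
  obtain ⟨hle, hπ, hidx⟩ := (Hall.isPiHallOf_iff H G).1 hH
  set n := Fintype.card α with hn
  have hodd : ∃ p : ℕ, p.Prime ∧ p ∈ π ∧ p ≤ n ∧ p ≠ 2 := by
    obtain ⟨r, s, hrp, hsp, hne, hrπ, hsπ, hrn, hsn⟩ := h2
    by_cases h : r = 2
    · exact ⟨s, hsp, hsπ, hsn, fun hs2 => hne (h.trans hs2.symm)⟩
    · exact ⟨r, hrp, hrπ, hrn, h⟩
  have hcycle : ∀ p : ℕ, p.Prime → p ∈ π → p ≤ n → p ≠ 2 → ∃ c ∈ H, Perm.cycleType c = {p} := by
    intro p hp hpπ hpn hp2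
    haveI := Fact.mk hp
    obtain ⟨c, hc⟩ := exists_cycle (α := α) hp.two_le hpn
    have hcG : c ∈ G := hG (by
      rw [Perm.mem_alternatingGroup, Perm.sign_of_cycleType, hc]
      simp only [Multiset.sum_singleton, Multiset.card_singleton]
      exact Even.neg_one_pow (by
        rcases hp.eq_two_or_odd with h | h
        · exact absurd h hp2
        · exact ⟨(p + 1) / 2, by omega⟩))
    obtain ⟨g, hg⟩ := exists_conj_mem hH hpπ hcG (by rw [← Perm.lcm_cycleType, hc]; simp)
    exact ⟨_, hg, by rw [Perm.cycleType_conj, hc]⟩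
  have hnalt : ¬ alternatingGroup α ≤ H := by
    intro hA
    obtain ⟨r, hr1, hrn, hrπ⟩ := hr
    refine hrπ (hπ r hr1 (dvd_trans ?_ (card_dvd_of_le hA)))
    haveI : Nontrivial α := Fintype.one_lt_card_iff_nontrivial.1 (by have := hr1.two_le; omega)
    have h2A := two_mul_nat_card_alternatingGroup (α := α)
    rw [Nat.card_perm, Nat.card_eq_fintype_card (α := α)] at h2A
    have hd : r ∣ 2 * Nat.card (alternatingGroup α) := h2A ▸ hr1.dvd_factorial.2 hrn
    rcases hr1.dvd_mul.1 hd with h | h
    · obtain rfl : r = 2 := (Nat.prime_dvd_prime_iff_eq hr1 Nat.prime_two).1 h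
      obtain ⟨p, hp, -, hpn, hp2⟩ := hodd
      have h4 : 4 ≤ n := by
        obtain ⟨r, s, hrp, hsp, hne, hrπ', hsπ', hrn, hsn⟩ := h2
        have hr3 : r ≠ 2 := fun e => hrπ (e ▸ hrπ')
        have hs3 : s ≠ 2 := fun e => hrπ (e ▸ hsπ')
        have := hrp.two_le
        have := hsp.two_le
        omega
      have h4d : 2 * 2 ∣ 2 * Nat.card (alternatingGroup α) :=
        h2A ▸ (by decide : 4 ∣ (4 : ℕ).factorial).trans (Nat.factorial_dvd_factorial h4)
      exact Nat.dvd_of_mul_dvd_mul_left two_pos h4d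
    · exact h
  have h3 : 3 ∉ π := fun h3π => by
    obtain ⟨c, hc, hct⟩ := hcycle 3 Nat.prime_three h3π h2.three_le (by norm_num)
    exact hnalt (Equiv.Perm.alternatingGroup_le_of_isPreprimitive_of_isThreeCycle_mem hprim hct hc)
  -- Jordan
  have hmult : ∀ p : ℕ, p.Prime → p ∈ π → p ≤ n → p ≠ 2 → ∀ k, k ≤ n - p + 1 →
      n.descFactorial k ∣ Nat.card H := by
    intro p hp hpπ hpn hp2 k hk
    haveI := Fact.mk hp
    obtain ⟨c, hcH, hc⟩ := hcycle p hp hpπ hpn hp2
    have hcyc : c.IsCycle := by rw [← Perm.card_cycleType_eq_one, hc, Multiset.card_singleton]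
    have hsupp : c.support.card = p := by rw [← Perm.sum_cycleType, hc, Multiset.sum_singleton]
    have hkn : k ≤ n := by have := hp.two_le; omega
    rcases Nat.eq_zero_or_pos k with rfl | hk0
    · simp
    have hpre : IsMultiplyPretransitive H α k := by
      rcases Nat.lt_or_ge k 2 with h | h
      · obtain rfl : k = 1 := by omega
        exact is_one_pretransitive_iff.2 hprim.toIsPretransitive
      let s : Set α := {x | c x = x}
      have hs : s.ncard = (n - p - 1) + 1 := by
        have : s = ↑(c.support)ᶜ := by ext x; simp [s]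
        rw [this, Set.ncard_coe_finset, Finset.card_compl, hsupp]
        omega
      haveI htr : IsPretransitive (fixingSubgroup H s) (SubMulAction.ofFixingSubgroup H s) := ⟨fun a b => by
        obtain ⟨i, hi⟩ := hcyc.exists_pow_eq (x := a.1) (y := b.1) a.2 b.2
        refine ⟨⟨⟨c, hcH⟩ ^ i, ?_⟩, Subtype.ext hi⟩
        rw [mem_fixingSubgroup_iff]
        intro y hy
        show (c ^ i) y = y
        exact Perm.pow_apply_eq_self_of_apply_eq_self hy i⟩
      have hcard : Nat.card (SubMulAction.ofFixingSubgroup H s) = p := by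
        rw [← hsupp, ← Fintype.card_coe, ← Nat.card_eq_fintype_card]
        exact Nat.card_congr (Equiv.subtypeEquivRight fun x => by
          rw [SubMulAction.mem_ofFixingSubgroup_iff, Perm.mem_support]; rfl)
      haveI := IsPreprimitive.of_prime_card (G := fixingSubgroup H s) (hcard ▸ hp)
      have hJ := hprim.isMultiplyPreprimitive hs (by rw [Nat.card_eq_fintype_card]; have := hp.two_le; omega)
        inferInstance
      haveI := hJ.isMultiplyPretransitive
      exact isMultiplyPretransitive_of_le (n := n - p - 1 + 2) (by omega)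
        (by rw [Nat.card_eq_fintype_card]; have := hp.two_le; omega)
    obtain ⟨t, -, ht⟩ := Finset.exists_subset_card_eq (s := (Finset.univ : Finset α)) (n := k) (by simpa using hkn)
    have hidx := hpre.index_of_fixingSubgroup_mul (s := (t : Set α)) (by rw [Set.ncard_coe_finset, ht])
    rw [Nat.card_eq_fintype_card (α := α), ← Nat.factorial_mul_descFactorial hkn,
      mul_comm (n - k).factorial] at hidx
    rw [← Nat.eq_of_mul_eq_mul_right (Nat.factorial_pos _) hidx]
    exact Subgroup.index_dvd_card _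
  -- the odd primes of `π` are `n - 1` or `n`
  have hbig : ∀ p : ℕ, p.Prime → p ∈ π → p ≤ n → p ≠ 2 → n ≤ p + 1 := fun p hp hpπ hpn hp2 => by
    by_contra hc
    have h := hmult p hp hpπ hpn hp2 3 (by omega)
    have h3d : 3 ∣ n.descFactorial 3 :=
      (by decide : 3 ∣ (3 : ℕ).factorial).trans (Nat.factorial_dvd_descFactorial n 3)
    exact h3 (hπ 3 Nat.prime_three (h3d.trans h))
  obtain ⟨p, hp, hpπ, hpn, hp2⟩ := hodd
  have hp5 : 5 ≤ p := by
    have := hp.two_le
    by_contra h
    interval_cases p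
    · exact hp2 rfl
    · exact h3 hpπ
    · norm_num at hp
  have huniq : ∀ s : ℕ, s.Prime → s ∈ π → s ≤ n → s = 2 ∨ s = p := fun s hs hsπ hsn => by
    by_cases hs2 : s = 2
    · exact Or.inl hs2
    · right
      have := hbig s hs hsπ hsn hs2
      have := hbig p hp hpπ hpn hp2
      have := hs.eq_two_or_odd
      have := hp.eq_two_or_odd
      omega
  have h2π : 2 ∈ π := by
    obtain ⟨r, s, hrp, hsp, hne, hrπ, hsπ, hrn, hsn⟩ := h2
    rcases huniq r hrp hrπ hrn with rfl | rfl
    · exact hrπ
    · rcases huniq s hsp hsπ hsn with rfl | rfl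
      · exact hsπ
      · exact absurd rfl hne
  haveI := Fact.mk hp
  -- the order of `H`
  have hcardH : ∀ q : ℕ, q.Prime → q ∣ Nat.card H → q = 2 ∨ q = p := fun q hq hd =>
    huniq q hq (hπ q hq hd) (hq.dvd_factorial.1 (by
      rw [← card_mul_relIndex (G := G) hle]; exact (hd.mul_right _).mul_right _))
  have hpp : ¬ p * p ∣ n.factorial := by
    intro h
    have hb := hbig p hp hpπ hpn hp2
    rcases Nat.eq_or_lt_of_le hpn with h' | h'
    · rw [← h', ← Nat.mul_factorial_pred hp.ne_zero] at h
      have := Nat.dvd_of_mul_dvd_mul_left hp.pos h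
      exact absurd (hp.dvd_factorial.1 this) (by omega)
    · rw [show n = p + 1 by omega, Nat.factorial_succ, ← Nat.mul_factorial_pred hp.ne_zero,
        mul_left_comm] at h
      rcases hp.dvd_mul.1 (Nat.dvd_of_mul_dvd_mul_left hp.pos h) with h'' | h''
      · exact absurd (Nat.le_of_dvd one_pos ((Nat.dvd_add_right dvd_rfl).1 h'')) (by omega)
      · exact absurd (hp.dvd_factorial.1 h'') (by omega)
  have hsolv : ∀ X : Subgroup (Perm α), Nat.card X ∣ Nat.card H → Group.IsSolvable X := by
    intro X hX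
    have hX0 : Nat.card X ≠ 0 := Nat.card_pos.ne'
    obtain ⟨a, m, hm, he⟩ := Nat.exists_eq_pow_mul_and_not_dvd hX0 p hp.ne_one
    have hm2 : m = 2 ^ m.primeFactorsList.length := Nat.eq_prime_pow_of_unique_prime_dvd
      (by rintro rfl; exact hm (dvd_zero p)) fun {d} hd hdm =>
        (hcardH d hd ((he ▸ hdm.mul_left _ : d ∣ Nat.card X).trans hX)).resolve_right (fun e => hm (e ▸ hdm))
    exact Burnside.isSolvable_of_card_eq_prime_pow_mul hp Nat.prime_two (he.trans (by rw [← hm2]))
  have hfac := card_mul_relIndex (G := G) hle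
  have hidxG := index_dvd_two hG
  have hR : ¬ 2 ∣ H.relIndex G := fun h => hidx 2 Nat.prime_two h h2π
  have h8 : ∀ c : ℕ, Nat.card H ∣ c → ¬ c * 8 ∣ n.factorial := by
    intro c hc h
    have h8' : 8 ∣ H.relIndex G * G.index :=
      Nat.dvd_of_mul_dvd_mul_left Nat.card_pos (by
        rw [← mul_assoc, hfac]
        exact (Nat.mul_dvd_mul_right hc 8).trans h)
    have hco : Nat.Coprime 8 (H.relIndex G) :=
      Nat.Coprime.pow_left 3 ((Nat.prime_two.coprime_iff_not_dvd).2 hR)
    have := Nat.le_of_dvd two_pos ((hco.dvd_of_dvd_mul_left h8').trans hidxG)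
    omega
  haveI := hprim.toIsPretransitive
  rcases Nat.eq_or_lt_of_le hpn with hpn' | hpn'
  · -- prime degree
    have hd := card_dvd_of_solvable_prime (p := p) (by rw [Nat.card_eq_fintype_card, ← hn, hpn']) H
      hprim.toIsPretransitive (hsolv H dvd_rfl)
    rcases Nat.lt_or_ge p 7 with hp7 | hp7
    · obtain rfl : p = 5 := by
        rcases hp.eq_two_or_odd with h | h <;> omega
      rw [show 5 * (5 - 1) = 20 from rfl] at hd
      have hf : Nat.card H * H.relIndex G * G.index = 120 := by
        rw [hfac]; show n.factorial = 120; rw [← hpn']; rfl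
      have hi := Nat.le_of_dvd two_pos hidxG
      have hle20 := Nat.le_of_dvd (by norm_num) hd
      have hdvd5 : ¬ 5 ∣ H.relIndex G := fun h => hidx 5 hp h hpπ
      have hR3 : H.relIndex G = 3 ∧ Nat.card H = 20 ∧ G.index = 2 := by
        have hRd : H.relIndex G ∣ 120 := ⟨Nat.card H * G.index, by rw [← hf]; ring⟩
        have hRle := Nat.le_of_dvd (by norm_num) hRd
        have hR13 : H.relIndex G = 1 ∨ H.relIndex G = 3 := by
          generalize H.relIndex G = R at hRd hRle hR hdvd5
          interval_cases R <;> first | omega | norm_num at hRd hR hdvd5 ⊢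
        have hi12 : G.index = 1 ∨ G.index = 2 := (Nat.dvd_prime Nat.prime_two).1 hidxG
        rcases hR13 with h | h <;> rcases hi12 with h' | h' <;> rw [h, h'] at hf <;> omega
      have hGA : G = alternatingGroup α := Perm.eq_alternatingGroup_of_index_eq_two hR3.2.2
      subst hGA
      haveI : Nontrivial α := Fintype.one_lt_card_iff_nontrivial.1 (by omega)
      haveI : IsSimpleGroup (alternatingGroup α) :=
        alternatingGroup.isSimpleGroup (by rw [Nat.card_eq_fintype_card]; omega)
      have hA : Nat.card (alternatingGroup α) = 60 := by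
        have h2A := two_mul_nat_card_alternatingGroup (α := α)
        rw [Nat.card_perm, Nat.card_eq_fintype_card (α := α), ← hn, ← hpn'] at h2A
        have : (5 : ℕ).factorial = 120 := rfl
        omega
      have htop : H.subgroupOf (alternatingGroup α) = ⊤ := SmallGroups.eq_top_of_not_dvd_factorial
        (SmallGroups.not_isMulCommutative_of_not_prime (by rw [hA]; norm_num)) (by
          rw [show (H.subgroupOf (alternatingGroup α)).index = 3 from hR3.1, hA]; decide)
      have := hR3.1
      rw [Subgroup.relIndex, htop, index_top] at this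
      omega
    · refine h8 _ hd ?_
      rw [← hpn', ← Nat.mul_factorial_pred hp.ne_zero, mul_assoc]
      refine Nat.mul_dvd_mul_left p ?_
      rw [← Nat.mul_factorial_pred (show p - 1 ≠ 0 by omega)]
      exact Nat.mul_dvd_mul_left _ (alt_card_aux (by omega))
  · -- degree `p + 1`
    have hn1 : n = p + 1 := by have := hbig p hp hpπ hpn hp2; omega
    have hn8 : 8 ≤ n := by
      by_contra h
      have hn6 : n = 6 := by
        rcases hp.eq_two_or_odd with h' | h' <;> omega
      have hd := hmult p hp hpπ hpn hp2 2 (by omega)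
      rw [hn6] at hd
      exact h3 (hπ 3 Nat.prime_three ((by decide : 3 ∣ (6 : ℕ).descFactorial 2).trans hd))
    have h2t : IsMultiplyPretransitive H α 2 := by
      have hd : IsPreprimitive H α := hprim
      obtain ⟨c, hcH, hc⟩ := hcycle p hp hpπ hpn hp2
      have hcyc : c.IsCycle := by rw [← Perm.card_cycleType_eq_one, hc, Multiset.card_singleton]
      have hsupp : c.support.card = p := by rw [← Perm.sum_cycleType, hc, Multiset.sum_singleton]
      refine hd.is_two_pretransitive (s := {x | c x = x}) (n := 0) ?_ (by rw [Nat.card_eq_fintype_card]; omega) ⟨fun a b => ?_⟩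
      · have : {x | c x = x} = ↑(c.support)ᶜ := by ext x; simp
        rw [this, Set.ncard_coe_finset, Finset.card_compl, hsupp]
        omega
      · obtain ⟨i, hi⟩ := hcyc.exists_pow_eq (x := a.1) (y := b.1) a.2 b.2
        refine ⟨⟨⟨c, hcH⟩ ^ i, ?_⟩, Subtype.ext hi⟩
        rw [mem_fixingSubgroup_iff]
        intro y hy
        show (c ^ i) y = y
        exact Perm.pow_apply_eq_self_of_apply_eq_self hy i
    rw [is_two_pretransitive_iff] at h2t
    obtain ⟨a⟩ : Nonempty α := Fintype.card_pos_iff.1 (by omega)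
    let S : Subgroup (Perm α) := (stabilizer H a).map H.subtype
    have hS : ∀ g ∈ S, ∀ x, g x ≠ a ↔ x ≠ a := by
      rintro g ⟨h, hh, rfl⟩ x
      have he : (h : Perm α) a = a := hh
      exact not_congr ⟨fun e => (h : Perm α).injective (e.trans he.symm), fun e => e ▸ he⟩
    let ρ : S →* Perm {x // x ≠ a} :=
      { toFun := fun g => g.1.subtypePerm (hS g.1 g.2)
        map_one' := Perm.ext fun _ => rfl
        map_mul' := fun _ _ => Perm.ext fun _ => rfl }
    have hρ : Function.Injective ρ := fun g g' h => Subtype.ext (Perm.ext fun x => by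
      by_cases hx : x = a
      · obtain ⟨y, hy, e⟩ := g.2
        obtain ⟨y', hy', e'⟩ := g'.2
        rw [← e, ← e', hx]
        exact (show (y : Perm α) a = a from hy).trans (show (y' : Perm α) a = a from hy').symm
      · exact congrArg Subtype.val (Perm.ext_iff.1 h ⟨x, hx⟩))
    have hScard : Nat.card S = Nat.card (stabilizer H a) := card_map_of_injective H.subtype_injective
    have hSs : Group.IsSolvable ρ.range := by
      have := hsolv S (hScard ▸ card_subgroup_dvd_card _)
      exact Group.isSolvable_of_surjective ρ.rangeRestrict_surjective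
    have hcp : Nat.card {x // x ≠ a} = p := by
      rw [Nat.card_eq_fintype_card, Fintype.card_subtype_compl, Fintype.card_subtype_eq, ← hn]; omega
    have hd := card_dvd_of_solvable_prime (p := p) hcp ρ.range ⟨fun x y => by
      obtain ⟨g, hg0, hg1⟩ := h2t (a := a) (b := x.1) (c := a) (d := y.1) (Ne.symm x.2) (Ne.symm y.2)
      exact ⟨⟨ρ ⟨(g : Perm α), g, hg0, rfl⟩, _, rfl⟩, Subtype.ext hg1⟩⟩ hSs
    rw [← Nat.card_congr (MonoidHom.ofInjective hρ).toEquiv, hScard] at hd
    have hH' : Nat.card H ∣ n * (p * (p - 1)) := by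
      rw [← (stabilizer H a).card_mul_index, index_stabilizer_of_transitive, Nat.card_eq_fintype_card (α := α), ← hn,
        mul_comm]
      exact Nat.mul_dvd_mul_left n hd
    refine h8 _ hH' ?_
    rw [hn1, Nat.factorial_succ, mul_assoc]
    refine Nat.mul_dvd_mul_left _ ?_
    rw [← Nat.mul_factorial_pred hp.ne_zero, mul_assoc]
    refine Nat.mul_dvd_mul_left p ?_
    rw [← Nat.mul_factorial_pred (show p - 1 ≠ 0 by omega)]
    exact Nat.mul_dvd_mul_left _ (alt_card_aux (by omega))

end Cfsg.Agent.Lib.SymHall
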