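import Mathlib
import Cfsg.Agent.Lib.SymHall.Primitive

/-!
Classification of the Hall subgroups of the symmetric and alternating groups.
-/

set_option autoImplicit false

namespace Cfsg.Agent.Lib.SymHall

open Equiv Subgroup MulAction
open scoped Pointwise

universe u

/-- the subgroups that occur -/
def Structure {α : Type u} [Fintype α] [DecidableEq α] (π : Set ℕ) (G H : Subgroup (Perm α)) : Prop :=
  (PrimeType π (Fintype.card α) ∧ ∃ t : Finset α, t.card = 1 ∧ H = stabilizer (Perm α) t ⊓ G) ∨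
    (Fintype.card α = 7 ∧ TwoThree π (Fintype.card α) ∧
      ∃ t : Finset α, t.card = 3 ∧ H = stabilizer (Perm α) t ⊓ G) ∨
    (Fintype.card α = 8 ∧ TwoThree π (Fintype.card α) ∧
      ∃ t : Finset α, t.card = 4 ∧ H = stabilizer (Perm α) ({t, tᶜ} : Finset (Finset α)) ⊓ G)

theorem Structure.shape {α : Type u} [Fintype α] [DecidableEq α] {π : Set ℕ} {G H : Subgroup (Perm α)}
    (h : Structure π G H) : Shape π (Fintype.card α) := by
  rcases h with ⟨h, -⟩ | ⟨h, h', -⟩ | ⟨h, h', -⟩
  · exact Or.inl h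
  · exact Or.inr ⟨Or.inl h, h'⟩
  · exact Or.inr ⟨Or.inr h, h'⟩

theorem isPiNumber_factorial {π : Set ℕ} {m : ℕ} (h : AllPrimes π m) :
    Hall.IsPiNumber π m.factorial := fun p hp hd => h p hp (hp.dvd_factorial.1 hd)

variable {α : Type u} [Fintype α] [DecidableEq α]

/-- The projection of a Hall subgroup to an invariant set. -/
theorem exists_proj {π : Set ℕ} {G H : Subgroup (Perm α)} (hG : alternatingGroup α ≤ G)
    (hH : Cfsg.IsPiHallOf π H G) (t : Finset α) (hHt : H ≤ stabilizer (Perm α) t) :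
    ∃ (G' H' : Subgroup (Perm {x // x ∉ t})), alternatingGroup {x // x ∉ t} ≤ G' ∧ Cfsg.IsPiHallOf π H' G' := by
  classical
  obtain ⟨hle, hπ, hidx⟩ := (Hall.isPiHallOf_iff H G).1 hH
  set W := stabilizer (Perm α) t
  have hmem : ∀ l ∈ W ⊓ G, ∀ x, l x ∉ t ↔ x ∉ t := fun l hl x => by
    refine not_congr ?_
    conv_lhs => rw [← (mem_stabilizer_iff.1 hl.1)]
    exact Finset.smul_mem_smul_finset_iff l
  let f : (W ⊓ G : Subgroup (Perm α)) →* Perm {x // x ∉ t} :=
    { toFun := fun l => l.1.subtypePerm (hmem l.1 l.2)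
      map_one' := Perm.ext fun _ => rfl
      map_mul' := fun _ _ => Perm.ext fun _ => rfl }
  refine ⟨f.range, (H.subgroupOf (W ⊓ G)).map f, fun σ hσ => ?_, ?_⟩
  · have hm : Perm.ofSubtype σ ∈ W ⊓ G := by
      refine Subgroup.mem_inf.2 ⟨?_, hG ?_⟩
      · rw [mem_stabilizer_iff]
        refine Finset.eq_of_subset_of_card_le ?_ (by rw [Finset.card_smul_finset])
        intro y hy
        obtain ⟨x, hx, rfl⟩ := Finset.mem_smul_finset.1 hy
        have e : Perm.ofSubtype σ x = x := Perm.ofSubtype_apply_of_not_mem σ (by simpa using hx)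
        rw [Perm.smul_def, e]
        exact hx
      · rw [Perm.mem_alternatingGroup, Perm.sign_ofSubtype]
        exact Perm.mem_alternatingGroup.1 hσ
    exact ⟨⟨_, hm⟩, Perm.ext fun x => Subtype.ext (Perm.ofSubtype_apply_coe σ x)⟩
  · rw [Hall.isPiHallOf_iff]
    refine ⟨fun x hx => ?_, ?_, ?_⟩
    · obtain ⟨y, -, rfl⟩ := hx
      exact ⟨y, rfl⟩
    · refine Hall.isPiNumber_map ?_ f
      rwa [Nat.card_congr (subgroupOfEquivOfLe (le_inf hHt hle)).toEquiv]
    · rw [MonoidHom.range_eq_map, Subgroup.relIndex_map_map]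
      refine Hall.IsPiNumber.of_dvd ?_
        (Subgroup.relIndex_dvd_of_le_left _ (le_sup_left : H.subgroupOf (W ⊓ G) ≤ _))
      rw [top_sup_eq, relIndex_top_right]
      exact hidx.of_dvd (Subgroup.relIndex_mul_relIndex H (W ⊓ G) G (le_inf hHt hle) inf_le_right ▸ dvd_mul_right _ _)

/-- The index in `G` of the stabilizer of a set. -/
theorem not_dvd_choose {π : Set ℕ} {G H : Subgroup (Perm α)} (hG : alternatingGroup α ≤ G)
    (hH : Cfsg.IsPiHallOf π H G) (t : Finset α) (hHt : H ≤ stabilizer (Perm α) t)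
    (h2 : 2 ≤ Fintype.card α - t.card) {p : ℕ} (hp : p.Prime) (hpπ : p ∈ π) :
    ¬ p ∣ (Fintype.card α).choose t.card := by
  obtain ⟨hle, -, hidx⟩ := (Hall.isPiHallOf_iff H G).1 hH
  intro hd
  have hodd : ∃ σ ∈ stabilizer (Perm α) t, Perm.sign σ = -1 := by
    obtain ⟨x, hx, y, hy, hxy⟩ := Finset.one_lt_card.1 (show 1 < tᶜ.card by rw [Finset.card_compl]; omega)
    exact ⟨_, swap_mem_stabilizer t (Or.inr ⟨Finset.mem_compl.1 hx, Finset.mem_compl.1 hy⟩), Perm.sign_swap hxy⟩
  refine hidx p hp ?_ hpπ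
  rw [← Subgroup.relIndex_mul_relIndex H (stabilizer (Perm α) t ⊓ G) G (le_inf hHt hle) inf_le_right]
  refine Dvd.dvd.mul_left ?_ _
  rwa [relIndex_inf_eq hG hodd, index_stabilizer_finset]

/-- The imprimitive case. -/
theorem imprimitive_case {π : Set ℕ} {G H : Subgroup (Perm α)} (hG : alternatingGroup α ≤ G)
    (hH : Cfsg.IsPiHallOf π H G) (h2 : TwoPrimes π (Fintype.card α)) [IsPretransitive H α]
    {B : Set α} (hB : IsBlock H B) (hB1 : 2 ≤ B.ncard) (hBn : B ≠ Set.univ)
    (ih : ∀ (β : Type u) [Fintype β] [DecidableEq β] (G' H' : Subgroup (Perm β)),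
      Fintype.card β < Fintype.card α → alternatingGroup β ≤ G' → Cfsg.IsPiHallOf π H' G' →
        TwoPrimes π (Fintype.card β) → AllPrimes π (Fintype.card β) ∨ Shape π (Fintype.card β)) :
    Structure π G H := by
  classical
  obtain ⟨hle, hπ, hidx⟩ := (Hall.isPiHallOf_iff H G).1 hH
  let t0 : Finset α := B.toFinset
  have ht0 : t0.card = B.ncard := (Set.ncard_eq_toFinset_card' B).symm
  let P : Finset (Finset α) := Finset.univ.image (fun h : H => (h : Perm α) • t0)
  have hcoe : ∀ h : H, (((h : Perm α) • t0 : Finset α) : Set α) = h • B := fun h => by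
    rw [Finset.coe_smul_finset, Set.coe_toFinset]; rfl
  have hdisj : ∀ s ∈ P, ∀ s' ∈ P, s ≠ s' → Disjoint s s' := by
    intro s hs s' hs' hne
    simp only [P, Finset.mem_image, Finset.mem_univ, true_and] at hs hs'
    obtain ⟨h, rfl⟩ := hs
    obtain ⟨h', rfl⟩ := hs'
    rw [← Finset.disjoint_coe, hcoe, hcoe]
    exact hB (fun e => hne (Finset.coe_injective ((hcoe h).trans (e.trans (hcoe h').symm))))
  obtain ⟨b0, hb0⟩ : B.Nonempty := Set.nonempty_of_ncard_ne_zero (by omega)
  have hcover : ∀ x, ∃ s ∈ P, x ∈ s := fun x => by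
    obtain ⟨h, hh⟩ := exists_smul_eq H b0 x
    exact ⟨_, Finset.mem_image_of_mem _ (Finset.mem_univ h),
      hh ▸ Finset.smul_mem_smul_finset (Set.mem_toFinset.2 hb0)⟩
  have hcardP : P.card * t0.card = Fintype.card α := by
    have hu : P.biUnion id = Finset.univ := Finset.eq_univ_of_forall fun x => by
      obtain ⟨s, hs, hx⟩ := hcover x
      exact Finset.mem_biUnion.2 ⟨s, hs, hx⟩
    rw [← Finset.card_univ, ← hu, Finset.card_biUnion (t := id) (fun s hs s' hs' hne => hdisj s hs s' hs' hne)]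
    refine (Finset.sum_const_nat fun s hs => ?_).symm
    simp only [P, Finset.mem_image, Finset.mem_univ, true_and] at hs
    obtain ⟨h, rfl⟩ := hs
    exact Finset.card_smul_finset _ _
  have ht0P : t0 ∈ P := Finset.mem_image.2 ⟨1, Finset.mem_univ _, one_smul _ _⟩
  set a := P.card with ha_def
  set b := t0.card with hb_def
  have hb2 : 2 ≤ b := by omega
  have hblt : b < Fintype.card α := by
    rw [hb_def, ← Finset.card_univ]
    refine Finset.card_lt_card (Finset.ssubset_univ_iff.2 fun e => hBn ?_)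
    rw [← Set.coe_toFinset B]; exact (congrArg _ e).trans Finset.coe_univ
  have ha2 : 2 ≤ a := by
    by_contra h
    interval_cases a <;> simp at hcardP <;> omega
  set W := stabilizer (Perm α) P with hWdef
  have hHW : H ≤ W := fun g hg => by
    rw [hWdef, mem_stabilizer_iff]
    refine Finset.eq_of_subset_of_card_le ?_ (by rw [Finset.card_smul_finset])
    intro s hs
    obtain ⟨s', hs', rfl⟩ := Finset.mem_smul_finset.1 hs
    simp only [P, Finset.mem_image, Finset.mem_univ, true_and] at hs' ⊢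
    obtain ⟨h, rfl⟩ := hs'
    exact ⟨⟨g, hg⟩ * h, mul_smul _ _ _⟩
  have hmove : ∀ s ∈ P, ∃ l ∈ H, l • t0 = s := fun s hs => by
    simp only [P, Finset.mem_image, Finset.mem_univ, true_and] at hs
    obtain ⟨h, rfl⟩ := hs
    exact ⟨h.1, h.2, rfl⟩
  have hinvW : ∀ l ∈ W, ∀ s ∈ P, l • s ∈ P := fun l hl s hs => by
    rw [← mem_stabilizer_iff.1 hl]
    exact Finset.smul_mem_smul_finset hs
  have hWdvd : Nat.card W ∣ a.factorial * b.factorial ^ a :=
    card_dvd_wreath W P t0 hinvW (fun s hs => (hmove s hs).imp fun l hl => ⟨hHW hl.1, hl.2⟩) hcover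
      (fun M _ => (card_subgroup_dvd_card M).trans (dvd_of_eq (by rw [Nat.card_perm, Nat.card_eq_fintype_card, Fintype.card_coe])))
  have hU : ∀ p : ℕ, p.Prime → p ∈ π → ¬ p ∣ Nat.uniformBell a b := by
    intro p hp hpπ hd
    have hodd : ∃ σ ∈ W, Perm.sign σ = -1 := by
      obtain ⟨x, hx, y, hy, hxy⟩ := Finset.one_lt_card.1 (show 1 < t0.card by omega)
      refine ⟨_, ?_, Perm.sign_swap hxy⟩
      rw [hWdef, mem_stabilizer_iff]
      refine Finset.eq_of_subset_of_card_le ?_ (by rw [Finset.card_smul_finset])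
      intro s hs
      obtain ⟨s', hs', rfl⟩ := Finset.mem_smul_finset.1 hs
      have : Equiv.swap x y ∈ stabilizer (Perm α) s' := swap_mem_stabilizer s' (by
        by_cases h : s' = t0
        · exact Or.inl ⟨h ▸ hx, h ▸ hy⟩
        · have hd := hdisj s' hs' t0 ht0P h
          exact Or.inr ⟨fun hx' => Finset.disjoint_left.1 hd hx' hx, fun hy' => Finset.disjoint_left.1 hd hy' hy⟩)
      rwa [mem_stabilizer_iff.1 this]
    refine hidx p hp ?_ hpπ
    rw [← Subgroup.relIndex_mul_relIndex H (W ⊓ G) G (le_inf hHW hle) inf_le_right, relIndex_inf_eq hG hodd]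
    refine Dvd.dvd.mul_left (hd.trans ?_) _
    obtain ⟨c, hc⟩ := hWdvd
    refine ⟨c, Nat.eq_of_mul_eq_mul_left (Nat.card_pos (α := W)) ?_⟩
    rw [card_mul_index, Nat.card_perm, Nat.card_eq_fintype_card, ← hcardP,
      ← Nat.uniformBell_mul_eq a (show b ≠ 0 by omega), mul_assoc, mul_comm (b.factorial ^ a), hc]
    ring
  have hdiv : ∀ p : ℕ, p.Prime → p ∣ a * b → p ∈ π := fun p hp hd => hπ p hp (hd.trans (by
    rw [hcardP, ← Nat.card_eq_fintype_card, ← index_stabilizer_of_transitive H b0]
    exact index_dvd_card _))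
  have hbt : TwoPrimes π b → AllPrimes π b ∨ Shape π b := by
    intro h2b
    have hinvH : H ⊓ stabilizer (Perm α) t0 ≤ stabilizer (Perm α) t0 := inf_le_right
    have hmem : ∀ l ∈ H ⊓ stabilizer (Perm α) t0, ∀ x, l x ∈ t0 ↔ x ∈ t0 := fun l hl x => by
      conv_lhs => rw [← (mem_stabilizer_iff.1 hl.2)]
      exact Finset.smul_mem_smul_finset_iff l
    let f0 : (H ⊓ stabilizer (Perm α) t0 : Subgroup (Perm α)) →* Perm {x // x ∈ t0} :=
      { toFun := fun l => l.1.subtypePerm (hmem l.1 l.2)
        map_one' := Perm.ext fun _ => rfl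
        map_mul' := fun _ _ => Perm.ext fun _ => rfl }
    set K := f0.range
    have hKdvd : Nat.card H ∣ a.factorial * Nat.card K ^ a :=
      card_dvd_wreath H P t0 (fun l hl => hinvW l (hHW hl)) hmove hcover (fun M hM => card_dvd_of_le fun σ hσ => by
        obtain ⟨l, hl, he⟩ := hM σ hσ
        have hls : l ∈ stabilizer (Perm α) t0 := by
          rw [mem_stabilizer_iff]
          refine Finset.eq_of_subset_of_card_le ?_ (by rw [Finset.card_smul_finset])
          intro y hy
          obtain ⟨x, hx, rfl⟩ := Finset.mem_smul_finset.1 hy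
          rw [Perm.smul_def, ← he ⟨x, hx⟩]
          exact (σ ⟨x, hx⟩).2
        exact ⟨⟨l, Subgroup.mem_inf.2 ⟨hl, hls⟩⟩, Perm.ext fun x => Subtype.ext (he x).symm⟩)
    have hcb : Fintype.card {x // x ∈ t0} = b := Fintype.card_coe t0
    have hK : Cfsg.IsPiHallOf π K ⊤ := by
      rw [Hall.isPiHallOf_iff]
      refine ⟨le_top, hπ.of_dvd ((card_range_dvd f0).trans (card_dvd_of_le inf_le_left)), ?_⟩
      rw [relIndex_top_right]
      intro p hp hd hpπ
      have hKi := K.card_mul_index
      rw [Nat.card_perm, Nat.card_eq_fintype_card (α := {x // x ∈ t0}), hcb] at hKi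
      have hf := card_mul_relIndex (G := G) hle
      rw [← hcardP, ← Nat.uniformBell_mul_eq a (show b ≠ 0 by omega), ← hKi] at hf
      obtain ⟨c, hc⟩ := hKdvd
      have h' : c * Nat.uniformBell a b * K.index ^ a = H.relIndex G * G.index := by
        refine Nat.eq_of_mul_eq_mul_left (Nat.card_pos (α := H)) ?_
        rw [← mul_assoc, ← mul_assoc, ← mul_assoc, hf, ← hc, mul_pow]
        ring
      have hp2 : p ^ 2 ∣ H.relIndex G * G.index := by
        rw [← h']
        exact ((pow_dvd_pow p ha2).trans (pow_dvd_pow_of_dvd hd a)).mul_left _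
      have hco : Nat.Coprime (p ^ 2) (H.relIndex G) :=
        Nat.Coprime.pow_left 2 ((hp.coprime_iff_not_dvd).2 fun h => hidx p hp h hpπ)
      have := Nat.le_of_dvd two_pos ((hco.dvd_of_dvd_mul_left hp2).trans (index_dvd_two hG))
      have := Nat.pow_le_pow_left hp.two_le 2
      omega
    have := ih {x // x ∈ t0} ⊤ K (by rw [hcb]; exact hblt) le_top hK (hcb ▸ h2b)
    rwa [hcb] at this
  obtain ⟨rfl', rfl'', h23⟩ := imprimitive_shape ha2 hb2 hdiv hU (hcardP ▸ h2) hbt
  refine Or.inr (Or.inr ⟨by rw [← hcardP, rfl', rfl''], hcardP ▸ h23, t0, rfl'', ?_⟩)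
  have hcompl : t0ᶜ ∈ P ∧ P = {t0, t0ᶜ} := by
    obtain ⟨s, hs, hne⟩ := Finset.exists_mem_ne (show 1 < P.card by omega) t0
    have hsub : s ⊆ t0ᶜ := fun x hx => Finset.mem_compl.2 fun hx' => Finset.disjoint_left.1 (hdisj s hs t0 ht0P hne) hx hx'
    have hseq : s = t0ᶜ := by
      refine Finset.eq_of_subset_of_card_le hsub ?_
      obtain ⟨l, -, hls⟩ := hmove s hs
      rw [Finset.card_compl, ← hls, Finset.card_smul_finset, ← hb_def, ← hcardP, rfl']
      omega
    refine ⟨hseq ▸ hs, (Finset.eq_of_subset_of_card_le ?_ ?_).symm⟩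
    · intro z hz
      rcases Finset.mem_insert.1 hz with rfl | hz
      · exact ht0P
      · rw [Finset.mem_singleton.1 hz, ← hseq]; exact hs
    · rw [Finset.card_pair (fun e => hne (hseq.trans e.symm)), ← ha_def, rfl']
  rw [← hcompl.2]
  refine hall_eq hH (le_inf hHW hle) inf_le_right ?_
  refine Hall.IsPiNumber.of_dvd ?_ ((card_dvd_of_le inf_le_left).trans hWdvd)
  rw [rfl', rfl'', ← hcardP, rfl', rfl''] at *
  intro p hp hd
  have h24 : p ∣ 2 ∨ p ∣ 3 := by
    have hd' : p ∣ 2 ^ 7 * 3 ^ 2 := by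
      have e : (2 : ℕ).factorial * (4 : ℕ).factorial ^ 2 = 2 ^ 7 * 3 ^ 2 := rfl
      rwa [e] at hd
    exact (hp.dvd_mul.1 hd').imp hp.dvd_of_dvd_pow hp.dvd_of_dvd_pow
  rcases h24 with h | h
  · obtain rfl := (Nat.prime_dvd_prime_iff_eq hp Nat.prime_two).1 h
    exact (h23 2 hp (by norm_num)).2 (Or.inl rfl)
  · obtain rfl := (Nat.prime_dvd_prime_iff_eq hp Nat.prime_three).1 h
    exact (h23 3 hp (by norm_num)).2 (Or.inr rfl)

/-- The classification. -/
theorem classify (π : Set ℕ) : ∀ (α : Type u) [Fintype α] [DecidableEq α] (G H : Subgroup (Perm α)),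
    alternatingGroup α ≤ G → Cfsg.IsPiHallOf π H G → TwoPrimes π (Fintype.card α) →
    (∃ r : ℕ, r.Prime ∧ r ≤ Fintype.card α ∧ r ∉ π) → Structure π G H := by
  intro α
  induction hm : Nat.card α using Nat.strong_induction_on generalizing α with
  | _ m ihm =>
    intro _ _ G H hG hH h2 hr
    classical
    have ih : ∀ (β : Type u) [Fintype β] [DecidableEq β] (G' H' : Subgroup (Perm β)),
        Fintype.card β < Fintype.card α → alternatingGroup β ≤ G' → Cfsg.IsPiHallOf π H' G' →
        TwoPrimes π (Fintype.card β) → AllPrimes π (Fintype.card β) ∨ Shape π (Fintype.card β) := by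
      intro β _ _ G' H' hlt hG' hH' h2'
      by_cases hall : AllPrimes π (Fintype.card β)
      · exact Or.inl hall
      · simp only [AllPrimes, not_forall] at hall
        obtain ⟨r, hr1, hr2, hr3⟩ := hall
        exact Or.inr (ihm (Nat.card β) (by rw [← hm, Nat.card_eq_fintype_card, Nat.card_eq_fintype_card]; exact hlt)
          β rfl G' H' hG' hH' h2' ⟨r, hr1, hr2, hr3⟩).shape
    obtain ⟨hle, hπ, hidx⟩ := (Hall.isPiHallOf_iff H G).1 hH
    by_cases htr : IsPretransitive H α
    · haveI := htr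
      obtain ⟨B, hB, hBs, hBn⟩ : ∃ B : Set α, IsBlock H B ∧ ¬ B.Subsingleton ∧ B ≠ Set.univ := by
        by_contra hcon
        push Not at hcon
        refine not_primitive hG hH h2 hr { isTrivialBlock_of_isBlock := fun {B} hB => ?_ }
        by_cases hs : B.Subsingleton
        · exact Or.inl hs
        · exact Or.inr (hcon B hB (Set.not_subsingleton_iff.1 hs))
      refine imprimitive_case hG hH h2 hB ?_ hBn ih
      by_contra h
      exact hBs (Set.ncard_le_one_iff_subsingleton.1 (by omega))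
    · -- an invariant set
      obtain ⟨t, ht1, ht2, htH⟩ : ∃ t : Finset α, 1 ≤ t.card ∧ t.card ≤ Fintype.card α - t.card ∧
          H ≤ stabilizer (Perm α) t := by
        obtain ⟨x, y, hxy⟩ : ∃ x y : α, ∀ h : H, h • x ≠ y := by
          by_contra h
          push Not at h
          exact htr ⟨fun x y => h x y⟩
        let s : Finset α := Finset.univ.filter (fun z => ∃ h : H, h • x = z)
        have hsx : x ∈ s := Finset.mem_filter.2 ⟨Finset.mem_univ _, 1, one_smul _ _⟩
        have hsy : y ∉ s := fun hy => by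
          obtain ⟨h, hh⟩ := (Finset.mem_filter.1 hy).2
          exact hxy h hh
        have hsH : H ≤ stabilizer (Perm α) s := fun g hg => by
          rw [mem_stabilizer_iff]
          refine Finset.eq_of_subset_of_card_le ?_ (by rw [Finset.card_smul_finset])
          intro z hz
          obtain ⟨w, hw, rfl⟩ := Finset.mem_smul_finset.1 hz
          obtain ⟨h, hh⟩ := (Finset.mem_filter.1 hw).2
          exact Finset.mem_filter.2 ⟨Finset.mem_univ _, ⟨g, hg⟩ * h, by rw [mul_smul, hh]; rfl⟩
        have h1 : 1 ≤ s.card := Finset.card_pos.2 ⟨x, hsx⟩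
        have h1' : 1 ≤ sᶜ.card := Finset.card_pos.2 ⟨y, Finset.mem_compl.2 hsy⟩
        rw [Finset.card_compl] at h1'
        by_cases hc : s.card ≤ Fintype.card α - s.card
        · exact ⟨s, h1, hc, hsH⟩
        · refine ⟨sᶜ, by rw [Finset.card_compl]; omega, by rw [Finset.card_compl]; omega, fun g hg => ?_⟩
          rw [mem_stabilizer_iff, ← Finset.coe_inj, Finset.coe_smul_finset, Finset.coe_compl,
            Set.smul_set_compl, ← Finset.coe_smul_finset, mem_stabilizer_iff.1 (hsH hg)]
      have h3 := h2.three_le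
      have hcb : Fintype.card {x // x ∉ t} = Fintype.card α - t.card := by
        rw [Fintype.card_subtype_compl, Fintype.card_coe]
      have hshape := intransitive_shape (π := π) (a := t.card) (b := Fintype.card α - t.card) ht1 ht2
        (fun p hp hpπ => by
          rw [show t.card + (Fintype.card α - t.card) = Fintype.card α by omega]
          exact not_dvd_choose hG hH t htH (by omega) hp hpπ)
        (by rwa [show t.card + (Fintype.card α - t.card) = Fintype.card α by omega])
        (by rwa [show t.card + (Fintype.card α - t.card) = Fintype.card α by omega])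
        (fun h2b => by
          obtain ⟨G', H', hG', hH'⟩ := exists_proj hG hH t htH
          have := ih {x // x ∉ t} G' H' (by rw [hcb]; omega) hG' hH' (by rw [hcb]; exact h2b)
          rwa [hcb] at this)
      rw [show t.card + (Fintype.card α - t.card) = Fintype.card α by omega] at hshape
      have hWπ : Hall.IsPiNumber π (Nat.card (stabilizer (Perm α) t)) →
          H = stabilizer (Perm α) t ⊓ G := fun h =>
        hall_eq hH (le_inf htH hle) inf_le_right (h.of_dvd (card_dvd_of_le inf_le_left))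
      rcases hshape with ⟨h1, hPT⟩ | ⟨h1, h4, h23⟩
      · refine Or.inl ⟨hPT, t, h1, hWπ ?_⟩
        rw [card_stabilizer_finset, h1, Nat.factorial_one, one_mul]
        exact isPiNumber_factorial fun p hp hle' => (hPT.2 p hp (by omega)).2 (by omega)
      · refine Or.inr (Or.inl ⟨by omega, h23, t, h1, hWπ ?_⟩)
        rw [card_stabilizer_finset, h4, h1]
        exact (isPiNumber_factorial fun p hp hle' => (h23 p hp (by omega)).2 (by
            interval_cases p <;> first | omega | norm_num at hp)).mul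
          (isPiNumber_factorial fun p hp hle' => (h23 p hp (by omega)).2 (by
            interval_cases p <;> first | omega | norm_num at hp))

end Cfsg.Agent.Lib.SymHall
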