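import Mathlib
import Cfsg.Agent.Lib.SymHall.Main

/-!
Conjugacy and existence of Hall subgroups of symmetric and alternating groups.
-/

set_option autoImplicit false

namespace Cfsg.Agent.Lib.SymHall

open Equiv Subgroup MulAction
open scoped Pointwise

universe u

variable {α : Type u} [Fintype α] [DecidableEq α] {π : Set ℕ} {G H K : Subgroup (Perm α)}

/-- The distinguished subgroups of the symmetric group. -/
def IsStd (π : Set ℕ) (W : Subgroup (Perm α)) : Prop :=
  (PrimeType π (Fintype.card α) ∧ ∃ t : Finset α, t.card = 1 ∧ W = stabilizer (Perm α) t) ∨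
    (Fintype.card α = 7 ∧ TwoThree π (Fintype.card α) ∧
      ∃ t : Finset α, t.card = 3 ∧ W = stabilizer (Perm α) t) ∨
    (Fintype.card α = 8 ∧ TwoThree π (Fintype.card α) ∧
      ∃ t : Finset α, t.card = 4 ∧ W = stabilizer (Perm α) ({t, tᶜ} : Finset (Finset α)))

theorem Structure.exists_std (h : Structure π G H) : ∃ W, IsStd π W ∧ H = W ⊓ G := by
  rcases h with ⟨h1, t, ht, rfl⟩ | ⟨h1, h2, t, ht, rfl⟩ | ⟨h1, h2, t, ht, rfl⟩
  · exact ⟨_, Or.inl ⟨h1, t, ht, rfl⟩, rfl⟩
  · exact ⟨_, Or.inr (Or.inl ⟨h1, h2, t, ht, rfl⟩), rfl⟩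
  · exact ⟨_, Or.inr (Or.inr ⟨h1, h2, t, ht, rfl⟩), rfl⟩

theorem exists_map_finset {t t' : Finset α} (h : t.card = t'.card) : ∃ σ : Perm α, σ • t = t' := by
  let e : {x // x ∈ t} ≃ {x // x ∈ t'} := Finset.equivOfCardEq h
  refine ⟨e.extendSubtype, Finset.eq_of_subset_of_card_le ?_ (by rw [Finset.card_smul_finset, h])⟩
  intro y hy
  obtain ⟨x, hx, rfl⟩ := Finset.mem_smul_finset.1 hy
  exact e.extendSubtype_mem x hx

theorem smul_compl' (σ : Perm α) (t : Finset α) : σ • tᶜ = (σ • t)ᶜ := by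
  rw [← Finset.coe_inj, Finset.coe_smul_finset, Finset.coe_compl, Finset.coe_compl, Set.smul_set_compl,
    Finset.coe_smul_finset]

theorem smul_pair (σ : Perm α) (t : Finset α) :
    σ • ({t, tᶜ} : Finset (Finset α)) = {σ • t, (σ • t)ᶜ} := by
  rw [← smul_compl', Finset.smul_finset_def, Finset.image_insert, Finset.image_singleton]

theorem swap_mem_pair {t : Finset α} {x y : α} (hx : x ∈ t) (hy : y ∈ t) :
    Equiv.swap x y ∈ stabilizer (Perm α) ({t, tᶜ} : Finset (Finset α)) := by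
  rw [mem_stabilizer_iff, smul_pair, mem_stabilizer_iff.1 (swap_mem_stabilizer t (Or.inl ⟨hx, hy⟩))]

theorem IsStd.exists_odd {W : Subgroup (Perm α)} (h : IsStd π W) (hn : 3 ≤ Fintype.card α) :
    ∃ σ ∈ W, Perm.sign σ = -1 := by
  have key : ∀ t : Finset α, 1 < tᶜ.card → ∃ σ ∈ stabilizer (Perm α) t, Perm.sign σ = -1 := fun t ht => by
    obtain ⟨x, hx, y, hy, hxy⟩ := Finset.one_lt_card.1 ht
    exact ⟨_, swap_mem_stabilizer t (Or.inr ⟨Finset.mem_compl.1 hx, Finset.mem_compl.1 hy⟩), Perm.sign_swap hxy⟩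
  rcases h with ⟨-, t, ht, rfl⟩ | ⟨h1, -, t, ht, rfl⟩ | ⟨h1, -, t, ht, rfl⟩
  · exact key t (by rw [Finset.card_compl]; omega)
  · exact key t (by rw [Finset.card_compl]; omega)
  · obtain ⟨x, hx, y, hy, hxy⟩ := Finset.one_lt_card.1 (show 1 < t.card by omega)
    exact ⟨_, swap_mem_pair hx hy, Perm.sign_swap hxy⟩

theorem IsStd.isPiNumber {W : Subgroup (Perm α)} (h : IsStd π W) : Hall.IsPiNumber π (Nat.card W) := by
  have h23 : ∀ {m : ℕ}, TwoThree π (Fintype.card α) → 7 ≤ Fintype.card α → m ≤ 4 → Hall.IsPiNumber π m.factorial := by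
    intro m h h7 hm
    refine isPiNumber_factorial fun p hp hle' => (h p hp (by omega)).2 ?_
    have := hp.two_le
    have : p ≤ 4 := by omega
    interval_cases p <;> first | omega | norm_num at hp
  rcases h with ⟨h1, t, ht, rfl⟩ | ⟨h1, h2, t, ht, rfl⟩ | ⟨h1, h2, t, ht, rfl⟩
  · rw [card_stabilizer_finset, ht, Nat.factorial_one, one_mul]
    exact isPiNumber_factorial fun p hp hle' => (h1.2 p hp (by omega)).2 (by have := h1.1.two_le; omega)
  · rw [card_stabilizer_finset, ht, h1]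
    exact (h23 h2 (by omega) (by norm_num)).mul (h23 h2 (by omega) (by norm_num))
  · obtain ⟨σ, hσ⟩ := exists_map_finset (t := t) (t' := tᶜ) (by rw [Finset.card_compl]; omega)
    have hne : t ≠ tᶜ := fun e => by
      obtain ⟨x, hx⟩ := Finset.card_pos.1 (show 0 < t.card by omega)
      exact Finset.mem_compl.1 (e ▸ hx) hx
    have hσW : σ ∈ stabilizer (Perm α) ({t, tᶜ} : Finset (Finset α)) := by
      rw [mem_stabilizer_iff, smul_pair, hσ, compl_compl, Finset.pair_comm]
    have hd := card_dvd_wreath (stabilizer (Perm α) ({t, tᶜ} : Finset (Finset α))) {t, tᶜ} t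
      (fun l hl s hs => by
        rw [← mem_stabilizer_iff.1 hl]; exact Finset.smul_mem_smul_finset hs)
      (fun s hs => by
        rcases Finset.mem_insert.1 hs with rfl | hs
        · exact ⟨1, one_mem _, one_smul _ _⟩
        · exact ⟨σ, hσW, hσ.trans (Finset.mem_singleton.1 hs).symm⟩)
      (fun x => by
        by_cases hx : x ∈ t
        · exact ⟨t, Finset.mem_insert_self _ _, hx⟩
        · exact ⟨tᶜ, Finset.mem_insert_of_mem (Finset.mem_singleton_self _), Finset.mem_compl.2 hx⟩)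
      (k := (4 : ℕ).factorial)
      (fun M _ => (card_subgroup_dvd_card M).trans (dvd_of_eq (by
        rw [Nat.card_perm, Nat.card_eq_fintype_card, Fintype.card_coe, ht])))
    rw [Finset.card_pair hne, pow_two] at hd
    exact ((h23 h2 (by omega) (by norm_num)).mul
      ((h23 h2 (by omega) le_rfl).mul (h23 h2 (by omega) le_rfl))).of_dvd hd

/-- Two distinguished subgroups are conjugate by an even permutation. -/
theorem IsStd.conj {W W' : Subgroup (Perm α)} (h : IsStd π W) (h' : IsStd π W') (hn : 3 ≤ Fintype.card α) :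
    ∃ g ∈ alternatingGroup α, W' = W.map (MulAut.conj g).toMonoidHom := by
  suffices h0 : ∃ g : Perm α, W' = W.map (MulAut.conj g).toMonoidHom by
    obtain ⟨g, hg⟩ := h0
    rcases Int.units_eq_one_or (Perm.sign g) with hs | hs
    · exact ⟨g, hs, hg⟩
    · obtain ⟨σ, hσ, hσs⟩ := h.exists_odd hn
      refine ⟨g * σ, by rw [Perm.mem_alternatingGroup, map_mul, hs, hσs]; decide, ?_⟩
      rw [hg, map_mul, MulEquiv.toMonoidHom_eq_coe, MulEquiv.toMonoidHom_eq_coe]
      conv_lhs => rw [← mem_normalizer_iff_map_conj_eq.1 (Subgroup.le_normalizer hσ)]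
      rw [map_map]
      rfl
  have hbad : PrimeType π (Fintype.card α) → TwoThree π (Fintype.card α) →
      Fintype.card α = 7 ∨ Fintype.card α = 8 → False := fun hP hT h78 => by
    rcases h78 with e | e
    · have h5 := (hP.2 5 Nat.prime_five (by omega)).2 (by omega)
      rcases (hT 5 Nat.prime_five (by omega)).1 h5 with h | h <;> omega
    · have := hP.1
      rw [e] at this
      norm_num at this
  have hmap : ∀ t t' : Finset α, t.card = t'.card →
      ∃ g : Perm α, stabilizer (Perm α) t' = (stabilizer (Perm α) t).map (MulAut.conj g).toMonoidHom := by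
    intro t t' ht
    obtain ⟨g, hg⟩ := exists_map_finset ht
    exact ⟨g, by rw [← hg, stabilizer_smul_eq_stabilizer_map_conj]⟩
  rcases h with ⟨h1, t, ht, rfl⟩ | ⟨h1, h2, t, ht, rfl⟩ | ⟨h1, h2, t, ht, rfl⟩
  · rcases h' with ⟨-, t', ht', rfl⟩ | ⟨h1', h2', -⟩ | ⟨h1', h2', -⟩
    · exact hmap t t' (ht.trans ht'.symm)
    · exact (hbad h1 h2' (Or.inl h1')).elim
    · exact (hbad h1 h2' (Or.inr h1')).elim
  · rcases h' with ⟨h1', -⟩ | ⟨-, -, t', ht', rfl⟩ | ⟨h1', -⟩
    · exact (hbad h1' h2 (Or.inl h1)).elim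
    · exact hmap t t' (ht.trans ht'.symm)
    · omega
  · rcases h' with ⟨h1', -⟩ | ⟨h1', -⟩ | ⟨-, -, t', ht', rfl⟩
    · exact (hbad h1' h2 (Or.inr h1)).elim
    · omega
    · obtain ⟨g, hg⟩ := exists_map_finset (ht.trans ht'.symm)
      exact ⟨g, by rw [← hg, ← smul_pair, stabilizer_smul_eq_stabilizer_map_conj]⟩

/-- At most one prime of `π`: the π-subgroups are `p`-groups. -/
theorem exists_prime_of_not_twoPrimes (h : ¬ TwoPrimes π (Fintype.card α)) :
    ∃ p : ℕ, p.Prime ∧ ∀ r : ℕ, r.Prime → r ∈ π → r ≤ Fintype.card α → r = p := by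
  by_cases he : ∃ p : ℕ, p.Prime ∧ p ∈ π ∧ p ≤ Fintype.card α
  · obtain ⟨p, hp, hpπ, hpn⟩ := he
    refine ⟨p, hp, fun r hr hrπ hrn => ?_⟩
    by_contra hne
    exact h ⟨r, p, hr, hp, hne, hrπ, hpπ, hrn, hpn⟩
  · exact ⟨2, Nat.prime_two, fun r hr hrπ hrn => absurd ⟨r, hr, hrπ, hrn⟩ he⟩

theorem dvd_factorial_of_dvd_card (H : Subgroup (Perm α)) {r : ℕ} (hd : r ∣ Nat.card H) :
    r ∣ (Fintype.card α).factorial := by
  have := hd.trans H.card_subgroup_dvd_card
  rwa [Nat.card_perm, Nat.card_eq_fintype_card] at this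

/-- Hall subgroups are conjugate. -/
theorem hall_conj (hG : alternatingGroup α ≤ G) (hH : Cfsg.IsPiHallOf π H G) (hK : Cfsg.IsPiHallOf π K G) :
    ∃ g ∈ G, K = H.map (MulAut.conj g).toMonoidHom := by
  obtain ⟨hHle, hHπ, hHi⟩ := (Hall.isPiHallOf_iff H G).1 hH
  obtain ⟨hKle, hKπ, hKi⟩ := (Hall.isPiHallOf_iff K G).1 hK
  by_cases h2 : TwoPrimes π (Fintype.card α)
  · by_cases hall : AllPrimes π (Fintype.card α)
    · have hGπ : Hall.IsPiNumber π (Nat.card G) := fun p hp hd =>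
        hall p hp (hp.dvd_factorial.1 (dvd_factorial_of_dvd_card G hd))
      refine ⟨1, one_mem _, ?_⟩
      rw [hall_eq hH hHle le_rfl hGπ, hall_eq hK hKle le_rfl hGπ, map_one]
      exact (Subgroup.map_id G).symm
    · simp only [AllPrimes, not_forall] at hall
      obtain ⟨r, hr1, hr2, hr3⟩ := hall
      obtain ⟨W, hW, rfl⟩ := (classify π α G H hG hH h2 ⟨r, hr1, hr2, hr3⟩).exists_std
      obtain ⟨W', hW', rfl⟩ := (classify π α G K hG hK h2 ⟨r, hr1, hr2, hr3⟩).exists_std
      obtain ⟨g, hg, rfl⟩ := hW.conj hW' h2.three_le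
      refine ⟨g, hG hg, ?_⟩
      have e : G.map (MulAut.conj g).toMonoidHom = G :=
        mem_normalizer_iff_map_conj_eq.1 (Subgroup.le_normalizer (hG hg))
      rw [Subgroup.map_inf _ _ _ (MulAut.conj g).injective, e]
  · obtain ⟨p, hp, hu⟩ := exists_prime_of_not_twoPrimes h2
    haveI := Fact.mk hp
    have hpg : ∀ X : Subgroup (Perm α), Hall.IsPiNumber π (Nat.card X) → IsPGroup p X := fun X hX =>
      IsPGroup.of_card (Nat.eq_prime_pow_of_unique_prime_dvd Nat.card_pos.ne' fun {d} hd hdX =>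
        hu d hd (hX d hd hdX) (hd.dvd_factorial.1 (dvd_factorial_of_dvd_card X hdX)))
    by_cases hpπ : p ∈ π
    · have mk : ∀ X : Subgroup (Perm α), X ≤ G → IsPGroup p X → Hall.IsPiNumber πᶜ (X.relIndex G) →
          ∃ S : Sylow p G, (S : Subgroup G) = X.subgroupOf G := fun X hX hXp hXi =>
        ⟨(hXp.of_equiv (subgroupOfEquivOfLe hX).symm).toSylow (fun h => hXi p hp h hpπ), rfl⟩
      obtain ⟨S, hS⟩ := mk H hHle (hpg H hHπ) hHi
      obtain ⟨T, hT⟩ := mk K hKle (hpg K hKπ) hKi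
      obtain ⟨g, hg⟩ := MulAction.exists_smul_eq G S T
      refine ⟨g.1, g.2, ?_⟩
      have h' : (H.subgroupOf G).map (MulAut.conj g).toMonoidHom = K.subgroupOf G := by
        rw [← hS, ← hT, ← hg]; rfl
      have h'' := congrArg (Subgroup.map G.subtype) h'
      have hcomp : G.subtype.comp (MulAut.conj g).toMonoidHom = (MulAut.conj g.1).toMonoidHom.comp G.subtype :=
        MonoidHom.ext fun x => rfl
      rw [map_map, hcomp, ← map_map, map_subgroupOf_eq_of_le hHle, map_subgroupOf_eq_of_le hKle] at h''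
      exact h''.symm
    · have hbot : ∀ X : Subgroup (Perm α), Hall.IsPiNumber π (Nat.card X) → X = ⊥ := fun X hX => by
        rw [← Subgroup.card_eq_one]
        by_contra hne
        obtain ⟨d, hd, hdX⟩ := Nat.exists_prime_and_dvd hne
        exact hpπ (hu d hd (hX d hd hdX) (hd.dvd_factorial.1 (dvd_factorial_of_dvd_card X hdX)) ▸ hX d hd hdX)
      exact ⟨1, one_mem _, by rw [hbot H hHπ, hbot K hKπ, Subgroup.map_bot]⟩

/-- Every Hall subgroup of the alternating group comes from the symmetric group. -/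
theorem exists_sym_of_alt (hH : Cfsg.IsPiHallOf π H (alternatingGroup α)) :
    ∃ W : Subgroup (Perm α), Cfsg.IsPiHall π W ∧ H = W ⊓ alternatingGroup α := by
  obtain ⟨hle, hπ, hidx⟩ := (Hall.isPiHallOf_iff H _).1 hH
  by_cases h2 : TwoPrimes π (Fintype.card α)
  · by_cases hall : AllPrimes π (Fintype.card α)
    · have hTπ : ∀ X : Subgroup (Perm α), Hall.IsPiNumber π (Nat.card X) := fun X p hp hd =>
        hall p hp (hp.dvd_factorial.1 (dvd_factorial_of_dvd_card X hd))
      refine ⟨⊤, Hall.isPiHall_top ?_, ?_⟩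
      · have := hTπ ⊤
        rwa [card_top] at this
      · rw [top_inf_eq]
        exact hall_eq hH hle le_rfl (hTπ _)
    · simp only [AllPrimes, not_forall] at hall
      obtain ⟨r, hr1, hr2, hr3⟩ := hall
      obtain ⟨W, hW, rfl⟩ :=
        (classify π α (alternatingGroup α) H le_rfl hH h2 ⟨r, hr1, hr2, hr3⟩).exists_std
      refine ⟨W, (Hall.isPiHall_iff W).2 ⟨hW.isPiNumber, ?_⟩, rfl⟩
      rwa [← relIndex_inf_eq le_rfl (hW.exists_odd h2.three_le)]
  · obtain ⟨p, hp, hu⟩ := exists_prime_of_not_twoPrimes h2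
    haveI := Fact.mk hp
    have hpg : ∀ X : Subgroup (Perm α), Hall.IsPiNumber π (Nat.card X) → IsPGroup p X := fun X hX =>
      IsPGroup.of_card (Nat.eq_prime_pow_of_unique_prime_dvd Nat.card_pos.ne' fun {d} hd hdX =>
        hu d hd (hX d hd hdX) (hd.dvd_factorial.1 (dvd_factorial_of_dvd_card X hdX)))
    have hidx' : ∀ X : Subgroup (Perm α), ∀ q : ℕ, q.Prime → q ∈ π → q ∣ X.index → q = p := fun X q hq hqπ hd =>
      hu q hq hqπ (hq.dvd_factorial.1 (by
        have := hd.trans X.index_dvd_card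
        rwa [Nat.card_perm, Nat.card_eq_fintype_card] at this))
    by_cases hpπ : p ∈ π ∧ p ≤ Fintype.card α
    · obtain ⟨P, hP⟩ := (hpg H hπ).exists_le_sylow
      have hPπ : Hall.IsPiNumber π (Nat.card (P : Subgroup (Perm α))) := by
        obtain ⟨i, hi⟩ := IsPGroup.iff_card.1 P.isPGroup'
        rw [hi]
        exact Hall.isPiNumber_pow_prime hp hpπ.1 i
      refine ⟨P, (Hall.isPiHall_iff _).2 ⟨hPπ, fun q hq hd hqπ => ?_⟩, ?_⟩
      · exact P.not_dvd_index (hidx' _ q hq hqπ hd ▸ hd)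
      · exact hall_eq hH (le_inf hP hle) inf_le_right (hPπ.of_dvd (card_dvd_of_le inf_le_left))
    · have hnone : ∀ q : ℕ, q.Prime → q ∈ π → ¬ q ∣ (Fintype.card α).factorial := fun q hq hqπ hd =>
        hpπ (hu q hq hqπ (hq.dvd_factorial.1 hd) ▸ ⟨hqπ, hq.dvd_factorial.1 hd⟩)
      refine ⟨⊥, Hall.isPiHall_bot ?_, ?_⟩
      · intro q hq hd hqπ
        rw [Nat.card_perm, Nat.card_eq_fintype_card] at hd
        exact hnone q hq hqπ hd
      · rw [bot_inf_eq, ← Subgroup.card_eq_one]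
        by_contra hne
        obtain ⟨d, hd, hdX⟩ := Nat.exists_prime_and_dvd hne
        exact hnone d hd (hπ d hd hdX) (dvd_factorial_of_dvd_card H hdX)

theorem isPiHallOf_top_iff {W : Subgroup (Perm α)} : Cfsg.IsPiHallOf π W ⊤ ↔ Cfsg.IsPiHall π W := by
  rw [Hall.isPiHallOf_iff, Hall.isPiHall_iff, relIndex_top_right]
  exact ⟨fun h => h.2, fun h => ⟨le_top, h⟩⟩

theorem alt_hall_iff (M : Subgroup (alternatingGroup α)) :
    Cfsg.IsPiHall π M ↔
      ∃ W : Subgroup (Perm α), Cfsg.IsPiHall π W ∧ M = W.subgroupOf (alternatingGroup α) := by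
  constructor
  · intro hM
    have hle : M.map (alternatingGroup α).subtype ≤ alternatingGroup α := map_subtype_le M
    have hH : Cfsg.IsPiHallOf π (M.map (alternatingGroup α).subtype) (alternatingGroup α) := by
      rw [Hall.isPiHallOf_iff_isPiHall]
      refine ⟨hle, ?_⟩
      rwa [Subgroup.subgroupOf, comap_map_eq_self_of_injective (alternatingGroup α).subtype_injective]
    obtain ⟨W, hW, he⟩ := exists_sym_of_alt hH
    refine ⟨W, hW, ?_⟩
    have := congrArg (fun X : Subgroup (Perm α) => X.subgroupOf (alternatingGroup α)) he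
    simp only [Subgroup.inf_subgroupOf_right] at this
    rwa [Subgroup.subgroupOf, comap_map_eq_self_of_injective (alternatingGroup α).subtype_injective] at this
  · rintro ⟨W, hW, rfl⟩
    have := Hall.isPiHall_inf_subgroupOf hW (alternatingGroup α)
    rwa [Subgroup.inf_subgroupOf_right] at this

theorem conj_alt {M N : Subgroup (alternatingGroup α)} (hM : Cfsg.IsPiHall π M) (hN : Cfsg.IsPiHall π N) :
    ∃ g : alternatingGroup α, N = M.map (MulAut.conj g).toMonoidHom := by
  have mk : ∀ X : Subgroup (alternatingGroup α), Cfsg.IsPiHall π X →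
      Cfsg.IsPiHallOf π (X.map (alternatingGroup α).subtype) (alternatingGroup α) := fun X hX => by
    rw [Hall.isPiHallOf_iff_isPiHall]
    refine ⟨map_subtype_le X, ?_⟩
    rwa [Subgroup.subgroupOf, comap_map_eq_self_of_injective (alternatingGroup α).subtype_injective]
  obtain ⟨g, hg, he⟩ := hall_conj le_rfl (mk M hM) (mk N hN)
  refine ⟨⟨g, hg⟩, Subgroup.map_injective (alternatingGroup α).subtype_injective ?_⟩
  rw [he, map_map, map_map]
  rfl

theorem conj_sym {M N : Subgroup (Perm α)} (hM : Cfsg.IsPiHall π M) (hN : Cfsg.IsPiHall π N) :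
    ∃ g : Perm α, N = M.map (MulAut.conj g).toMonoidHom := by
  obtain ⟨g, -, he⟩ := hall_conj (G := ⊤) le_top (isPiHallOf_top_iff.2 hM) (isPiHallOf_top_iff.2 hN)
  exact ⟨g, he⟩

theorem exists_alt_iff :
    Cfsg.IsEPiGroup π (Perm α) ↔ Cfsg.IsEPiGroup π (alternatingGroup α) := by
  constructor
  · rintro ⟨W, hW⟩
    exact ⟨_, (alt_hall_iff _).2 ⟨W, hW, rfl⟩⟩
  · rintro ⟨M, hM⟩
    obtain ⟨W, hW, -⟩ := (alt_hall_iff M).1 hM
    exact ⟨W, hW⟩

end Cfsg.Agent.Lib.SymHall
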